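import Cfsg.Agent.Lib.ConjTypeNM.PrimePower
import Cfsg.Agent.Lib.PSolvable
import Cfsg.Agent.Lib.PComplement
import Cfsg.Agent.Lib.CharTheory.Burnside
import Cfsg.Agent.Lib.EqualOrder.Solvable
import Cfsg.Agent.S4127

/-!
A group with class sizes `1, n, m, nm` is nilpotent.
-/

set_option autoImplicit false

namespace CfsgLib.ConjTypeNM

open Subgroup CfsgLib.CopClass Cfsg

universe u
variable {G : Type u} [Group G] [Finite G] {n m : ℕ}

theorem vp_top (s : ℕ) : vp s (⊤ : Subgroup G) = 0 := by simp [vp]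

omit [Finite G] in
theorem PE.isPGroup {p : ℕ} {x : G} (hx : PE p x) : IsPGroup p (zpowers x) := by
  rintro ⟨y, hy⟩
  obtain ⟨k, hk⟩ := pe_of_zpowers hx hy
  exact ⟨k, Subtype.ext (by simpa using hk)⟩

theorem relIndex_sup_left' {C N : Subgroup G} [N.Normal] : C.relIndex (C ⊔ N) = C.relIndex N := by
  have p1 := relIndex_mul_relIndex (C ⊓ N) C (C ⊔ N) inf_le_left le_sup_left
  have p2 := relIndex_mul_relIndex (C ⊓ N) N (C ⊔ N) inf_le_right le_sup_right
  rw [inf_relIndex_left] at p1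
  rw [inf_relIndex_right, relIndex_sup_right] at p2
  rw [← p2, mul_comm _ (N.relIndex C)] at p1
  exact Nat.eq_of_mul_eq_mul_left (Nat.pos_of_ne_zero (index_ne_zero_of_finite (H := N.subgroupOf C))) p1

/-- A normal `p`-subgroup of `K` lies in every subgroup of `K` of index prime to `p`. -/
theorem le_of_pgroup_normal {p : ℕ} (hp : p.Prime) {L K N : Subgroup G} [N.Normal] (hN : IsPGroup p N)
    (hNK : N ≤ K) (hLK : L ≤ K) (hd : ¬ p ∣ L.relIndex K) : N ≤ L := by
  haveI := Fact.mk hp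
  have h1 : L.relIndex N ∣ L.relIndex K := by
    rw [← relIndex_sup_left', ← relIndex_mul_relIndex L (L ⊔ N) K le_sup_left (sup_le hLK hNK)]
    exact dvd_mul_right _ _
  obtain ⟨k, hk⟩ := hN.exists_card_eq
  have h2 : L.relIndex N ∣ p ^ k := hk ▸ relIndex_dvd_card L N
  obtain ⟨i, -, hi⟩ := (Nat.dvd_prime_pow hp).mp h2
  rcases Nat.eq_zero_or_pos i with rfl | hi0
  · exact relIndex_eq_one.mp (hi.trans (pow_zero p))
  · exact absurd (((dvd_pow_self p hi0.ne').trans hi.symm.dvd).trans h1) hd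

/-- `f` a `p`-element, `u` a `q`-element with `C(f) ≤ C(u)`: then `u` centralises `O_p(G)`. -/
theorem axb {p q : ℕ} (hp : p.Prime) (hq : q.Prime) (hpq : p ≠ q) {f u : G} (hf : PE p f) (hu : PE q u)
    (hle : cz f ≤ cz u) : ∀ v ∈ pCore p G, Commute u v := by
  haveI := Fact.mk hp
  intro v hv
  have hfu : Commute f u := mem_cz.mp (hle (mem_cz.mpr rfl))
  have hN : (⊤ : Subgroup G) ≤ normalizer ((pCore p G : Subgroup G) : Set G) :=
    (normalizer_eq_top_iff.mpr inferInstance).ge
  have h1 := CfsgLib.thompson_PxQ (P := zpowers f) (Q := zpowers u) hf.isPGroup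
    (by rw [Nat.card_zpowers]; exact hu.orderOf_coprime hq hp (Ne.symm hpq))
    (by
      rintro _ ⟨i, rfl⟩
      refine mem_centralizer_iff.mpr ?_
      rintro _ ⟨j, rfl⟩
      exact (hfu.symm.zpow_zpow j i).eq)
    (pCore p G) (CfsgLib.isPGroup_pCore p) (le_top.trans hN) (le_top.trans hN) (by
      intro w hw
      refine mem_centralizer_iff.mpr ?_
      rintro _ ⟨j, rfl⟩
      have h2 : Commute w u := mem_cz.mp (hle (mem_cz.mpr (mem_centralizer_iff.mp hw.2 f (mem_zpowers f)).symm))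
      exact (h2.symm.zpow_left j).eq)
  exact (mem_centralizer_iff.mp (h1 (mem_zpowers u)) v hv).symm

/-- The class sizes are `1`, `p^α`, `q^β`, `p^α q^β`. -/
structure PP (G : Type u) [Group G] (n m p q α β : ℕ) : Prop where
  h : Sz G n m
  hp : p.Prime
  hq : q.Prime
  en : n = p ^ α
  em : m = q ^ β

namespace PP

variable {p q α β : ℕ}

omit [Finite G] in
theorem symm (P : PP G n m p q α β) : PP G m n q p β α := ⟨P.h.symm, P.hq, P.hp, P.em, P.en⟩

omit [Finite G] in
theorem hα (P : PP G n m p q α β) : 0 < α := by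
  rcases Nat.eq_zero_or_pos α with h0 | h0
  · have := P.h.hn; rw [P.en, h0, pow_zero] at this; omega
  · exact h0

omit [Finite G] in
theorem p_dvd_n (P : PP G n m p q α β) : p ∣ n := P.en ▸ dvd_pow_self p P.hα.ne'

omit [Finite G] in
theorem ne (P : PP G n m p q α β) : p ≠ q := fun e =>
  P.h.not_dvd_m P.hp P.p_dvd_n (e ▸ P.symm.p_dvd_n)

omit [Finite G] in
theorem fn (P : PP G n m p q α β) : n.factorization p = α := by
  rw [P.en, P.hp.factorization_pow, Finsupp.single_eq_same]

theorem other_central (P : PP G n m p q α β) {s : ℕ} (hs : s.Prime) (hsp : s ≠ p) (hsq : s ≠ q) {u : G}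
    (hu : PE s u) : u ∈ center G := by
  haveI := Fact.mk hs
  have hd : ∀ g : G, ¬ s ∣ cs g := fun g hd => by
    have h1 := hd.trans (P.h.cs_dvd g)
    rw [P.en, P.em] at h1
    rcases hs.dvd_mul.mp h1 with h2 | h2
    · exact hsp ((Nat.prime_dvd_prime_iff_eq hs P.hp).mp (hs.dvd_of_dvd_pow h2))
    · exact hsq ((Nat.prime_dvd_prime_iff_eq hs P.hq).mp (hs.dvd_of_dvd_pow h2))
  obtain ⟨S, hS⟩ := hu.isPGroup.exists_le_sylow
  have htop : centralizer ((S : Subgroup G) : Set G) = ⊤ := by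
    refine CfsgLib.eq_top_of_conj_cover _ fun g => ?_
    obtain ⟨Q, hQ⟩ := CfsgLib.exists_sylow_le_of_not_dvd_index (cz g) (hd g)
    obtain ⟨x, hx⟩ := MulAction.exists_smul_eq G Q S
    refine ⟨x, mem_centralizer_iff.mpr fun z hz => ?_⟩
    rw [← hx, Sylow.coe_subgroup_smul] at hz
    obtain ⟨w, hw, rfl⟩ := hz
    show (x * w * x⁻¹) * (x * g * x⁻¹) = x * g * x⁻¹ * (x * w * x⁻¹)
    exact (commute_conj_iff.mpr (show Commute w g from mem_cz.mp (hQ hw))).eq
  refine mem_center_iff.mpr fun g => ?_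
  exact (mem_centralizer_iff.mp (htop ▸ mem_top g : g ∈ centralizer ((S : Subgroup G) : Set G)) u
    (hS (mem_zpowers u))).symm

theorem center_prime (P : PP G n m p q α β) {s : ℕ} (hs : s.Prime) (hsp : s ≠ p) (hsq : s ≠ q) :
    vp s (center G) = 0 :=
  Nat.le_zero.mp ((vp_le_of_forall hs fun _ _ hu => P.other_central hs hsp hsq hu).trans_eq (vp_top s))

theorem solvable (P : PP G n m p q α β) : Group.IsSolvable G := by
  have hcard : Nat.card (G ⧸ center G) =
      p ^ (center G).index.factorization p * q ^ (center G).index.factorization q := by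
    rw [← index_eq_card]
    refine Nat.eq_of_factorization_eq index_ne_zero_of_finite
      (mul_ne_zero (pow_ne_zero _ P.hp.ne_zero) (pow_ne_zero _ P.hq.ne_zero)) fun s => ?_
    rw [Nat.factorization_mul (pow_ne_zero _ P.hp.ne_zero) (pow_ne_zero _ P.hq.ne_zero), P.hp.factorization_pow,
      P.hq.factorization_pow, Finsupp.add_apply]
    rcases eq_or_ne s p with rfl | hsp
    · rw [Finsupp.single_eq_same, Finsupp.single_eq_of_ne P.ne, add_zero]
    rcases eq_or_ne s q with rfl | hsq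
    · rw [Finsupp.single_eq_same, Finsupp.single_eq_of_ne (Ne.symm P.ne), zero_add]
    rw [Finsupp.single_eq_of_ne hsp, Finsupp.single_eq_of_ne hsq, add_zero]
    by_cases hs : s.Prime
    · exact P.center_prime hs hsp hsq
    · exact Nat.factorization_eq_zero_of_not_prime _ hs
  haveI : Group.IsSolvable (G ⧸ center G) := CfsgLib.CharTheory.isSolvable_of_card_two_primes P.hp P.hq hcard
  haveI : Group.IsSolvable (center G) := Group.isSolvable_of_comm fun a b => Subtype.ext (mem_center_iff.mp b.2 a)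
  exact Group.isSolvable_of_ker_le_range (center G).subtype (QuotientGroup.mk' (center G))
    (by rw [QuotientGroup.ker_mk', range_subtype])

theorem mem_pCore_of_cent (P : PP G n m p q α β) {u : G} (hu : PE q u)
    (hcp : ∀ v ∈ pCore p G, Commute u v) (hcq : ∀ v ∈ pCore q G, Commute u v) : u ∈ pCore q G := by
  haveI := P.solvable
  haveI := Fact.mk P.hq
  have hF : fittingSubgroup G ≤ cz u := by
    rw [CfsgLib.fittingSubgroup_eq_iSup_pCore]
    refine iSup_le fun s v hv => mem_cz.mpr ?_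
    rcases eq_or_ne (s : ℕ) p with hsp | hsp
    · exact (hcp v (hsp ▸ hv)).eq.symm
    rcases eq_or_ne (s : ℕ) q with hsq | hsq
    · exact (hcq v (hsq ▸ hv)).eq.symm
    obtain ⟨k, hk⟩ := CfsgLib.isPGroup_pCore (G := G) (s : ℕ) ⟨v, hv⟩
    exact (mem_center_iff.mp (P.other_central s.2 hsp hsq ⟨k, congrArg Subtype.val hk⟩) u).symm
  have h1 : u ∈ fittingSubgroup G :=
    CfsgLib.centralizer_fitting_le (mem_centralizer_iff.mpr fun v hv => mem_cz.mp (hF hv))
  exact CfsgLib.EqualOrder.Solv.le_pCore_of_le_fitting hu.isPGroup (zpowers_le.mpr h1) (mem_zpowers u)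

theorem commute_cores (P : PP G n m p q α β) {f v : G} (hf : f ∈ pCore p G) (hv : v ∈ pCore q G) :
    Commute f v := by
  haveI := Fact.mk P.hp; haveI := Fact.mk P.hq
  exact commute_of_normal_of_disjoint _ _ inferInstance inferInstance
    (IsPGroup.disjoint_of_ne p q P.ne _ _ (CfsgLib.isPGroup_pCore p) (CfsgLib.isPGroup_pCore q)) f v hf hv

omit [Finite G] in
theorem pe_core (s : ℕ) [Finite G] {v : G} (hv : v ∈ pCore s G) : PE s v := by
  obtain ⟨k, hk⟩ := CfsgLib.isPGroup_pCore (G := G) s ⟨v, hv⟩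
  exact ⟨k, congrArg Subtype.val hk⟩

theorem cz_le_of_nm (P : PP G n m p q α β) {f u : G} (hf : PE p f) (hu : PE q u) (hc : Commute u f)
    (hfs : cs f = n * m) : cz f ≤ cz u := by
  have h1 : cz (u * f) = cz u ⊓ cz f := mul_cz P.hq P.hp (Ne.symm P.ne) hu hf hc
  have h2 : cz (u * f) = cz f := eq_of_le_of_index ((le_of_eq h1).trans inf_le_right) (by
    change cs (u * f) ≤ cs f
    rw [hfs]
    exact Nat.le_of_dvd (Nat.mul_pos (by have := P.h.hn; omega) (by have := P.h.hm; omega)) (P.h.cs_dvd _))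
  exact (le_of_eq h2.symm).trans ((le_of_eq h1).trans inf_le_left)

theorem conj_mem_normal {N : Subgroup G} [N.Normal] {k u : G} (hk : k * u * k⁻¹ ∈ N) : u ∈ N := by
  simpa [mul_assoc] using (inferInstance : N.Normal).conj_mem _ hk k⁻¹

/-- Without a `p`-element of size `n` and a `q`-element of size `m`, the element `t` lies in `O_q(G)`. -/
theorem crossed_mem (P : PP G n m p q α β) (hP : ∀ x : G, PE p x → cs x ≠ n)
    (hQ : ∀ x : G, PE q x → cs x ≠ m) {a t : G} (ha : PE p a) (ca : cs a = m) (ht : PE q t) (ct : cs t = n) :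
    t ∈ pCore q G := by
  haveI := Fact.mk P.hq
  have htq : ∀ v ∈ pCore q G, Commute t v := fun v hv =>
    (mem_cz.mp (le_of_pgroup_normal P.hq (CfsgLib.isPGroup_pCore q) le_top le_top (L := cz t) (by
      rw [relIndex_top_right]
      change ¬ q ∣ cs t
      rw [ct]
      exact P.h.symm.not_dvd_m P.hq P.symm.p_dvd_n) hv) : Commute v t).symm
  refine P.mem_pCore_of_cent ht ?_ htq
  by_contra hcon
  push Not at hcon
  obtain ⟨f, hf, hft⟩ := hcon
  have hfs : cs f = n * m := by
    rcases P.h.val f with h1 | h1 | h1 | h1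
    · exact absurd (mem_center_iff.mp (cs_one_iff.mp h1) t) hft
    · exact absurd h1 (hP f (pe_core p hf))
    · exact absurd (commute_mn P.h h1 ct).symm hft
    · exact h1
  have hin : ∀ u ∈ cz f, PE q u → u ∈ pCore q G := fun u hu hpu => by
    have hle := P.cz_le_of_nm (pe_core p hf) hpu (mem_cz.mp hu) hfs
    exact P.mem_pCore_of_cent hpu (axb P.hp P.hq P.ne (pe_core p hf) hpu hle) fun v hv =>
      (mem_cz.mp (hle (mem_cz.mpr (P.commute_cores hf hv).symm.eq)) : Commute v u).symm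
  have hv1 : vp q (pCore q G) ≤ m.factorization q :=
    (vp_le_of_forall P.hq hin).trans_eq ((Sz.vp_cs hfs).trans (P.h.fact_nm' P.hq P.symm.p_dvd_n))
  have hab : ∀ g ∈ pCore q G, pCore q G ≤ cz g := fun g hg v hv =>
    P.cz_le_of_nm (pe_core p hf) (pe_core q hg) (P.commute_cores hf hg).symm hfs
      (mem_cz.mpr (P.commute_cores hf hv).symm.eq)
  have hnot : ∀ {k : G}, k * t * k⁻¹ ∉ pCore q G := fun {k} hk =>
    hft (P.commute_cores hf (conj_mem_normal hk)).symm
  have haq : pCore q G ≤ cz a := fun g hg => by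
    rcases P.h.val g with h1 | h1 | h1 | h1
    · exact mem_cz.mpr (mem_center_iff.mp (cs_one_iff.mp h1) a).symm
    · exact mem_cz.mpr (commute_mn P.h ca h1).symm.eq
    · exact absurd h1 (hQ g (pe_core q hg))
    · obtain ⟨k, -, hk⟩ := conj_into' P.hq (hab g hg)
        (hv1.trans_eq ((Sz.vp_cs h1).trans (P.h.fact_nm' P.hq P.symm.p_dvd_n)).symm)
        (mem_cz.mpr (htq g hg).eq) ht
      exact absurd hk hnot
  obtain ⟨k, -, hk⟩ := conj_into' P.hq haq (hv1.trans_eq (Sz.vp_cs ca).symm)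
    (mem_cz.mpr (commute_mn P.h ca ct).symm.eq) ht
  exact hnot hk

theorem crossed_false (P : PP G n m p q α β) (hP : ∀ x : G, PE p x → cs x ≠ n)
    (hQ : ∀ x : G, PE q x → cs x ≠ m) {a t : G} (ha : PE p a) (ca : cs a = m) (ht : PE q t) (ct : cs t = n) :
    False := by
  haveI := Fact.mk P.hp
  have htO := P.crossed_mem hP hQ ha ca ht ct
  have haO := P.symm.crossed_mem hQ hP ht ct ha ca
  obtain ⟨w, hpw, hwa⟩ : ∃ w : G, PE q w ∧ ¬ Commute w a := by
    by_contra hcon
    push Not at hcon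
    have h1 := vp_le_of_forall P.hq (L := cz a) (K := ⊤) fun u _ hu => mem_cz.mpr (hcon u hu).eq
    rw [vp_top, Sz.vp_cs ca, P.symm.fn] at h1
    have := P.symm.hα
    omega
  have hws : cs w = n * m := by
    rcases P.h.val w with h1 | h1 | h1 | h1
    · exact absurd (mem_center_iff.mp (cs_one_iff.mp h1) a).symm hwa
    · exact absurd (commute_mn P.h ca h1).symm hwa
    · exact absurd h1 (hQ w hpw)
    · exact h1
  set C := centralizer ((pCore q G : Subgroup G) : Set G) with hC
  have hin : vp p (C ⊓ cz w) ≤ α := by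
    refine (vp_le_of_forall P.hp (L := C ⊓ cz w) (K := cz w) fun u hu hpu => ⟨mem_centralizer_iff.mpr fun v hv => ?_, hu⟩).trans_eq
      ((Sz.vp_cs hws).trans ((P.h.fact_nm P.hp P.p_dvd_n).trans P.fn))
    have hle := P.symm.cz_le_of_nm hpw hpu (mem_cz.mp hu) (hws.trans (mul_comm n m))
    exact (axb P.hq P.hp (Ne.symm P.ne) hpw hpu hle v hv).eq.symm
  have hCt : C ≤ cz t := fun v hv => mem_cz.mpr (mem_centralizer_iff.mp hv t htO).symm
  have hCv : α ≤ vp p C := by
    have := vp_mono (p := p) hCt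
    rwa [Sz.vp_cs ct, P.fn] at this
  have haC : pCore p G ≤ C := fun f hf => mem_centralizer_iff.mpr fun v hv => (P.commute_cores hf hv).eq.symm
  have h2 := le_of_pgroup_normal P.hp (CfsgLib.isPGroup_pCore p) haC inf_le_left
    (not_dvd_relIndex P.hp inf_le_left (hin.trans hCv))
  exact hwa (mem_cz.mp (h2 haO).2 : Commute a w).symm

theorem hasComplement (P : PP G n m p q α β) {t : G} (ht : PE p t) (ct : cs t = n) :
    HasNormalPComplement p G := by
  haveI := Fact.mk P.hp
  refine Cfsg.Agent.S4127.result p α (fun y hy => ?_) ⟨t, ?_, ct.trans P.en⟩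
  · have h1 := hy.trans (P.h.cs_dvd y)
    rw [P.en, pow_succ, P.em] at h1
    have h2 : p ∣ q ^ β := Nat.dvd_of_mul_dvd_mul_left (pow_pos P.hp.pos α) h1
    exact P.ne ((Nat.prime_dvd_prime_iff_eq P.hp P.hq).mp (P.hp.dvd_of_dvd_pow h2))
  · obtain ⟨k, hk⟩ := ht
    obtain ⟨i, -, hi⟩ := (Nat.dvd_prime_pow P.hp).mp (orderOf_dvd_of_pow_eq_one hk)
    exact ⟨i, hi⟩

theorem mixed_false (P : PP G n m p q α β) (hQ : ∀ x : G, PE q x → cs x ≠ m) {a t : G} (ha : PE p a)
    (ca : cs a = m) (ht : PE p t) (ct : cs t = n) : False := by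
  haveI := Fact.mk P.hp
  haveI := Fact.mk P.hq
  have hc := P.hasComplement ht ct
  let Q : Sylow q G := default
  set T := pPrimeCore p G with hT
  have hqT : ∀ u : G, PE q u → u ∈ T := fun u hu =>
    CfsgLib.mem_pPrimeCore_of_hasNormalPComplement hc (hu.orderOf_coprime P.hq P.hp (Ne.symm P.ne))
  have hQpe : ∀ u ∈ (Q : Subgroup G), PE q u := fun u hu => by
    obtain ⟨k, hk⟩ := Q.isPGroup' ⟨u, hu⟩
    exact ⟨k, congrArg Subtype.val hk⟩
  have hTQ : T = (Q : Subgroup G) ⊔ (T ⊓ center G) := by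
    refine (eq_of_le_of_index (sup_le (fun u hu => hqT u (hQpe u hu)) inf_le_left) ?_).symm
    refine Nat.le_of_dvd (Nat.pos_of_ne_zero index_ne_zero_of_finite) ?_
    rw [← Nat.factorization_le_iff_dvd index_ne_zero_of_finite index_ne_zero_of_finite]
    intro s
    by_cases hs : s.Prime
    swap
    · rw [Nat.factorization_eq_zero_of_not_prime _ hs]; exact Nat.zero_le _
    rcases eq_or_ne s q with rfl | hsq
    · have h1 := vp_mono (p := s) (le_sup_left : (Q : Subgroup G) ≤ (Q : Subgroup G) ⊔ (T ⊓ center G))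
      have h2 : vp s (Q : Subgroup G) = 0 := Nat.factorization_eq_zero_of_not_dvd Q.not_dvd_index
      change vp s _ ≤ vp s T
      omega
    refine vp_le_of_forall hs fun u hu hpu => ?_
    rcases eq_or_ne s p with rfl | hsp
    · rw [hpu.eq_one ((CfsgLib.card_pPrimeCore_coprime s).coprime_dvd_left (T.orderOf_dvd_natCard hu))]
      exact one_mem _
    · exact mem_sup_right ⟨hu, P.other_central hs hsp hsq hpu⟩
  have hTN : T ≤ normalizer ((Q : Subgroup G) : Set G) := by
    rw [hTQ]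
    exact sup_le le_normalizer (inf_le_right.trans ((center_le_centralizer _).trans (centralizer_le_normalizer _)))
  have hallQ : ∀ u : G, PE q u → u ∈ (Q : Subgroup G) := fun u hu => by
    have h1 : u ∈ zpowers u ⊓ normalizer (Q : Set G) := ⟨mem_zpowers u, hTN (hqT u hu)⟩
    rw [hu.isPGroup.inf_normalizer_sylow] at h1
    exact h1.2
  haveI hQn : (Q : Subgroup G).Normal := ⟨fun u hu g => hallQ _ ((hQpe u hu).conj g)⟩
  have hcore : (Q : Subgroup G) = pCore q G := CfsgLib.sylow_eq_pCore_of_normal Q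
  set C := centralizer ((pCore q G : Subgroup G) : Set G) with hC
  have haC : a ∉ C := fun h1 => by
    have h2 := vp_le_of_forall P.hq (L := cz a) (K := ⊤) fun u _ hu =>
      mem_cz.mpr (mem_centralizer_iff.mp h1 u (hcore ▸ hallQ u hu))
    rw [vp_top, Sz.vp_cs ca, P.symm.fn] at h2
    have := P.symm.hα
    omega
  obtain ⟨f, hf, hfa⟩ : ∃ f ∈ pCore q G, ¬ Commute f a := by
    by_contra hcon
    push Not at hcon
    exact haC (mem_centralizer_iff.mpr fun v hv => (hcon v hv).eq)
  have hnmC : ∀ g ∈ pCore q G, cs g = n * m → ∀ u ∈ cz g, PE p u → u ∈ C := fun g hg hgs u hu hpu => by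
    have hle := P.symm.cz_le_of_nm (pe_core q hg) hpu (mem_cz.mp hu) (hgs.trans (mul_comm n m))
    exact mem_centralizer_iff.mpr fun v hv =>
      (axb P.hq P.hp (Ne.symm P.ne) (pe_core q hg) hpu hle v hv).eq.symm
  have hfs : cs f = n * m := by
    rcases P.h.val f with h1 | h1 | h1 | h1
    · exact absurd (mem_center_iff.mp (cs_one_iff.mp h1) a).symm hfa
    · exact absurd (commute_mn P.h ca h1).symm hfa
    · exact absurd h1 (hQ f (pe_core q hf))
    · exact h1
  have hCv : vp p C ≤ α := (vp_le_of_forall P.hp (hnmC f hf hfs)).trans_eq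
    ((Sz.vp_cs hfs).trans ((P.h.fact_nm P.hp P.p_dvd_n).trans P.fn))
  have hkey : ∀ g ∈ cz a, PE q g → g ∈ center G := by
    intro g hga hpg
    have hg : g ∈ pCore q G := hcore ▸ hallQ g hpg
    have hag : a ∈ cz g := mem_cz.mpr (mem_cz.mp hga).symm
    rcases P.h.val g with h1 | h1 | h1 | h1
    · exact cs_one_iff.mp h1
    · exfalso
      obtain ⟨k, -, hk⟩ := conj_into' P.hp (L := C) (K := cz g)
        (fun v hv => mem_cz.mpr (mem_centralizer_iff.mp hv g hg).symm)
        (hCv.trans_eq ((Sz.vp_cs h1).trans P.fn).symm) hag ha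
      exact haC (conj_mem_normal hk)
    · exact absurd h1 (hQ g hpg)
    · exact absurd (hnmC g hg h1 a hag ha) haC
  have hv : vp q (center G) ≤ β := (vp_le_of_forall P.hq hkey).trans_eq ((Sz.vp_cs ca).trans P.symm.fn)
  refine haC (mem_centralizer_iff.mpr fun g hg => ?_)
  rcases P.h.val g with h1 | h1 | h1 | h1
  · exact (mem_center_iff.mp (cs_one_iff.mp h1) a).symm
  · exact (commute_mn P.h ca h1).symm.eq
  · exact absurd h1 (hQ g (pe_core q hg))
  · obtain ⟨k, -, hk⟩ := conj_into' P.hq (center_le_centralizer ({g} : Set G))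
      (hv.trans_eq (((Sz.vp_cs h1).trans ((P.h.fact_nm' P.hq P.symm.p_dvd_n))).trans P.symm.fn).symm)
      (mem_cz.mpr rfl) (pe_core q hg)
    exact (mem_center_iff.mp (conj_mem_normal hk) a).symm

theorem prim_m (P : PP G n m p q α β) : ∃ a : G, (PE p a ∨ PE q a) ∧ cs a = m := by
  obtain ⟨s, hs, a, ha, ca⟩ := P.h.exists_primary_m
  refine ⟨a, ?_, ca⟩
  by_contra hcon
  push Not at hcon
  exact Sz.not_central_of_cs ca P.h.hm
    (P.other_central hs (fun e => hcon.1 (e ▸ ha)) (fun e => hcon.2 (e ▸ ha)) ha)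

theorem exists_p_n (P : PP G n m p q α β) : ∃ t : G, PE p t ∧ cs t = n := by
  by_contra hcon
  push Not at hcon
  obtain ⟨t, ht, ct⟩ := P.symm.prim_m
  have htq : PE q t := ht.resolve_right fun h1 => hcon t h1 ct
  by_cases hQ : ∃ x : G, PE q x ∧ cs x = m
  · obtain ⟨x, hx, cx⟩ := hQ
    exact P.symm.mixed_false hcon htq ct hx cx
  · push Not at hQ
    obtain ⟨a, ha, ca⟩ := P.prim_m
    exact P.crossed_false hcon hQ (ha.resolve_right fun h1 => hQ a h1 ca) ca htq ct

theorem commute_pq (P : PP G n m p q α β) {x y : G} (hx : PE p x) (hy : PE q y) : Commute x y := by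
  haveI := Fact.mk P.hp
  haveI := Fact.mk P.hq
  obtain ⟨t, ht, ct⟩ := P.exists_p_n
  obtain ⟨a, ha, ca⟩ := P.symm.exists_p_n
  have hyN := CfsgLib.mem_pPrimeCore_of_hasNormalPComplement (P.hasComplement ht ct)
    (hy.orderOf_coprime P.hq P.hp (Ne.symm P.ne))
  have hxN := CfsgLib.mem_pPrimeCore_of_hasNormalPComplement (P.symm.hasComplement ha ca)
    (hx.orderOf_coprime P.hp P.hq P.ne)
  set c := x * y * x⁻¹ * y⁻¹ with hc
  have hcp : c ∈ pPrimeCore p G := mul_mem ((inferInstance : (pPrimeCore p G).Normal).conj_mem y hyN x) (inv_mem hyN)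
  have hcq : c ∈ pPrimeCore q G := by
    have := mul_mem hxN ((inferInstance : (pPrimeCore q G).Normal).conj_mem x⁻¹ (inv_mem hxN) y)
    simpa [hc, mul_assoc] using this
  have hop : (orderOf c).Coprime p :=
    (CfsgLib.card_pPrimeCore_coprime p).coprime_dvd_left ((pPrimeCore p G).orderOf_dvd_natCard hcp)
  have hoq : (orderOf c).Coprime q :=
    (CfsgLib.card_pPrimeCore_coprime q).coprime_dvd_left ((pPrimeCore q G).orderOf_dvd_natCard hcq)
  have hcz : c ∈ center G := by
    by_contra hcz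
    obtain ⟨s, hs, u, hu, hpu, huz⟩ := exists_prim hcz
    have hu' := orderOf_dvd_of_mem_zpowers hu
    rcases eq_or_ne s p with rfl | hsp
    · rw [hpu.eq_one (hop.coprime_dvd_left hu')] at huz; exact huz (one_mem _)
    rcases eq_or_ne s q with rfl | hsq
    · rw [hpu.eq_one (hoq.coprime_dvd_left hu')] at huz; exact huz (one_mem _)
    exact huz (P.other_central hs hsp hsq hpu)
  obtain ⟨k, hk⟩ := hy
  have h1 : x * y * x⁻¹ = c * y := by rw [hc]; group
  have h2 : (x * y * x⁻¹) ^ q ^ k = 1 := by rw [conj_pow, hk]; group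
  rw [h1, (show Commute c y from (mem_center_iff.mp hcz y).symm).mul_pow, hk, mul_one] at h2
  have h3 : c = 1 := PE.eq_one ⟨k, h2⟩ hoq
  rw [hc, mul_inv_eq_one, mul_inv_eq_iff_eq_mul] at h3
  exact h3

theorem commute_primes (P : PP G n m p q α β) {s s' : ℕ} (hs : s.Prime) (hs' : s'.Prime) (hne : s ≠ s')
    {x y : G} (hx : PE s x) (hy : PE s' y) : Commute x y := by
  by_cases hxz : x ∈ center G
  · exact (mem_center_iff.mp hxz y).symm
  by_cases hyz : y ∈ center G
  · exact mem_center_iff.mp hyz x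
  have h1 : s = p ∨ s = q := by
    by_contra h; push Not at h; exact hxz (P.other_central hs h.1 h.2 hx)
  have h2 : s' = p ∨ s' = q := by
    by_contra h; push Not at h; exact hyz (P.other_central hs' h.1 h.2 hy)
  rcases h1 with rfl | rfl <;> rcases h2 with rfl | rfl
  · exact absurd rfl hne
  · exact P.commute_pq hx hy
  · exact (P.commute_pq hy hx).symm
  · exact absurd rfl hne

theorem nilpotent (P : PP G n m p q α β) : Group.IsNilpotent G := by
  refine ((Group.isNilpotent_of_finite_tfae (G := G)).out 0 3).mpr ?_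
  intro s hs S
  rw [← normalizer_eq_top_iff, ← index_eq_one]
  by_contra hne
  obtain ⟨l, hl, hld⟩ := Nat.exists_prime_and_dvd hne
  haveI := Fact.mk hl
  have h0 : vp l (normalizer ((S : Subgroup G) : Set G)) = 0 := by
    rcases eq_or_ne l s with rfl | hls
    · exact Nat.le_zero.mp ((vp_mono le_normalizer).trans_eq (Nat.factorization_eq_zero_of_not_dvd S.not_dvd_index))
    · refine Nat.le_zero.mp ((vp_le_of_forall hl (K := ⊤) fun u _ hu => ?_).trans_eq (vp_top l))
      refine centralizer_le_normalizer _ (mem_centralizer_iff.mpr fun v hv => ?_)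
      obtain ⟨k, hk⟩ := S.isPGroup' ⟨v, hv⟩
      exact (P.commute_primes hs.out hl (Ne.symm hls) ⟨k, congrArg Subtype.val hk⟩ hu).eq
  have := hl.factorization_pos_of_dvd index_ne_zero_of_finite hld
  unfold vp at h0
  omega

end PP

/-- Class sizes `1, n, m, nm` force nilpotency and prime powers. -/
theorem Sz.main (h : Sz G n m) : Group.IsNilpotent G ∧ IsPrimePow n ∧ IsPrimePow m := by
  refine ⟨?_, h.isPrimePow, h.symm.isPrimePow⟩
  obtain ⟨p, α, hp, -, en⟩ := (isPrimePow_nat_iff n).mp h.isPrimePow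
  obtain ⟨q, β, hq, -, em⟩ := (isPrimePow_nat_iff m).mp h.symm.isPrimePow
  exact (⟨h, hp, hq, en.symm, em.symm⟩ : PP G n m p q α β).nilpotent

end CfsgLib.ConjTypeNM
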