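import Mathlib
import Cfsg.Agent.Lib.CoprimeClassSizesDisc
import Cfsg.Agent.Lib.CyclicSylowAbelian.Basic

/-!
Groups whose class sizes are `1, n, m, nm` with `n`, `m` coprime: definitions and first facts.
-/

set_option autoImplicit false

namespace CfsgLib.ConjTypeNM

open Subgroup CfsgLib.CopClass

universe u
variable {G : Type u} [Group G] [Finite G]

/-- An element whose order is a power of `p`. -/
def PE (p : ℕ) (g : G) : Prop := ∃ k : ℕ, g ^ p ^ k = 1

/-- The class sizes are `1, n, m, nm`. -/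
structure Sz (G : Type u) [Group G] (n m : ℕ) : Prop where
  hn : 1 < n
  hm : 1 < m
  cop : n.Coprime m
  val : ∀ g : G, cs g = 1 ∨ cs g = n ∨ cs g = m ∨ cs g = n * m
  exn : ∃ g : G, cs g = n
  exm : ∃ g : G, cs g = m
  exnm : ∃ g : G, cs g = n * m

namespace Sz

variable {n m : ℕ}

omit [Finite G] in
theorem symm (h : Sz G n m) : Sz G m n where
  hn := h.hm
  hm := h.hn
  cop := h.cop.symm
  val g := by rcases h.val g with h1 | h1 | h1 | h1 <;> simp [h1, mul_comm]
  exn := h.exm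
  exm := h.exn
  exnm := by obtain ⟨g, hg⟩ := h.exnm; exact ⟨g, by rw [hg, mul_comm]⟩

omit [Finite G] in
theorem cs_dvd (h : Sz G n m) (g : G) : cs g ∣ n * m := by
  rcases h.val g with h1 | h1 | h1 | h1 <;> rw [h1] <;> simp

omit [Finite G] in
theorem not_n_dvd_m (h : Sz G n m) : ¬ n ∣ m := fun hd => by
  have := Nat.eq_one_of_dvd_coprimes h.cop dvd_rfl hd
  have := h.hn
  omega

omit [Finite G] in
theorem eq_m_or (h : Sz G n m) {g : G} (hd : m ∣ cs g) : cs g = m ∨ cs g = n * m := by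
  rcases h.val g with h1 | h1 | h1 | h1
  · rw [h1, Nat.dvd_one] at hd; have := h.hm; omega
  · rw [h1] at hd; exact absurd hd h.symm.not_n_dvd_m
  · exact Or.inl h1
  · exact Or.inr h1

omit [Finite G] in
theorem eq_n_or (h : Sz G n m) {g : G} (hd : n ∣ cs g) : cs g = n ∨ cs g = n * m := by
  rcases h.symm.eq_m_or hd with h1 | h1
  · exact Or.inl h1
  · exact Or.inr (h1.trans (mul_comm m n))

omit [Finite G] in
theorem eq_nm (h : Sz G n m) {g : G} (hd : n ∣ cs g) (hd' : m ∣ cs g) : cs g = n * m := by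
  rcases h.eq_n_or hd with h1 | h1
  · rw [h1] at hd'; exact absurd hd' h.symm.not_n_dvd_m
  · exact h1

omit [Finite G] in
theorem of_dvd_m (h : Sz G n m) {g : G} (hd : cs g ∣ m) : cs g = 1 ∨ cs g = m := by
  rcases h.val g with h1 | h1 | h1 | h1
  · exact Or.inl h1
  · rw [h1] at hd; exact absurd hd h.not_n_dvd_m
  · exact Or.inr h1
  · rw [h1] at hd; exact absurd ((dvd_mul_right n m).trans hd) h.not_n_dvd_m

omit [Finite G] in
theorem of_dvd_n (h : Sz G n m) {g : G} (hd : cs g ∣ n) : cs g = 1 ∨ cs g = n := h.symm.of_dvd_m hd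

omit [Finite G] in
theorem not_dvd_m (h : Sz G n m) {p : ℕ} (hp : p.Prime) (hpn : p ∣ n) : ¬ p ∣ m := fun hd =>
  hp.ne_one (Nat.eq_one_of_dvd_coprimes h.cop hpn hd)

theorem cop_cs (h : Sz G n m) {a x : G} (ha : cs a = m) (hx : cs x = n) : (cs a).Coprime (cs x) := by
  rw [ha, hx]; exact h.cop.symm

end Sz

/-! ### Conjugation -/

omit [Finite G] in
theorem commute_conj_iff {w a b : G} :
    Commute (w * a * w⁻¹) (w * b * w⁻¹) ↔ Commute a b := by
  rw [← MulAut.conj_apply, ← MulAut.conj_apply]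
  refine ⟨fun h => ?_, fun h => h.map _⟩
  have := h.map (MulAut.conj w).symm
  simpa [mul_assoc] using this

/-- Classes of coprime sizes commute as soon as two members commute. -/
theorem cross {a b : G} (h : (cs a).Coprime (cs b)) {g : G} (hc : Commute (g * a * g⁻¹) b) :
    Commute a b := by
  obtain ⟨w, hwa, hwb⟩ := exists_conj_both h g 1
  rw [one_mul, inv_one, mul_one] at hwb
  rw [← hwa, ← hwb] at hc
  exact commute_conj_iff.mp hc

theorem cross' {a b : G} (h : (cs a).Coprime (cs b)) (hc : Commute a b) (g : G) :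
    Commute (g * a * g⁻¹) b := by
  obtain ⟨w, hwa, hwb⟩ := exists_conj_both h g 1
  rw [one_mul, inv_one, mul_one] at hwb
  rw [← hwa, ← hwb]
  exact commute_conj_iff.mpr hc

omit [Finite G] in
theorem commute_comm_conj {u t g : G} : Commute (g * u * g⁻¹) t ↔ Commute u (g⁻¹ * t * g⁻¹⁻¹) := by
  rw [← commute_conj_iff (w := g⁻¹)]
  simp [mul_assoc]

/-! ### Primary elements -/

omit [Finite G] in
theorem PE.conj {p : ℕ} {a : G} (ha : PE p a) (g : G) : PE p (g * a * g⁻¹) := by
  obtain ⟨k, hk⟩ := ha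
  exact ⟨k, by rw [conj_pow, hk]; group⟩

omit [Finite G] in
theorem PE.inv {p : ℕ} {a : G} (ha : PE p a) : PE p a⁻¹ := by
  obtain ⟨k, hk⟩ := ha
  exact ⟨k, by rw [inv_pow, hk, inv_one]⟩

omit [Finite G] in
theorem PE.mul {p : ℕ} {a b : G} (ha : PE p a) (hb : PE p b) (hab : Commute a b) : PE p (a * b) := by
  obtain ⟨k, hk⟩ := ha
  obtain ⟨l, hl⟩ := hb
  exact ⟨k + l, by rw [hab.mul_pow, pow_add, pow_mul, hk, one_pow, one_mul, mul_comm (p ^ k), pow_mul, hl, one_pow]⟩

omit [Finite G] in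
theorem PE.one (p : ℕ) : PE p (1 : G) := ⟨0, one_pow _⟩

theorem PE.coprime {p q : ℕ} (hp : p.Prime) (hq : q.Prime) (hpq : p ≠ q) {a b : G}
    (ha : PE p a) (hb : PE q b) : (orderOf a).Coprime (orderOf b) :=
  CfsgLib.CentMax.coprime_of_primary hp hq hpq ha hb

omit [Finite G] in
theorem PE.co {p : ℕ} {a w : G} (ha : PE p a) (hw : (orderOf w).Coprime p) :
    (orderOf a).Coprime (orderOf w) := by
  obtain ⟨k, hk⟩ := ha
  exact (Nat.Coprime.pow_left k hw.symm).coprime_dvd_left (orderOf_dvd_of_pow_eq_one hk)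

omit [Finite G] in
theorem PE.eq_one {p : ℕ} {a : G} (ha : PE p a) (hw : (orderOf a).Coprime p) : a = 1 :=
  orderOf_eq_one_iff.mp (Nat.coprime_self _ |>.mp (ha.co hw))

omit [Finite G] in
theorem PE.orderOf_coprime {p q : ℕ} (hp : p.Prime) (hq : q.Prime) (hpq : p ≠ q) {a : G}
    (ha : PE p a) : (orderOf a).Coprime q := by
  obtain ⟨k, hk⟩ := ha
  exact (Nat.Coprime.pow_left k ((Nat.coprime_primes hp hq).mpr hpq)).coprime_dvd_left (orderOf_dvd_of_pow_eq_one hk)

/-- The centraliser of a product of commuting primary elements. -/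
theorem mul_cz {p q : ℕ} (hp : p.Prime) (hq : q.Prime) (hpq : p ≠ q) {a b : G} (ha : PE p a)
    (hb : PE q b) (hab : Commute a b) : cz (a * b) = cz a ⊓ cz b :=
  inf_cz_eq hab (ha.coprime hp hq hpq hb)

omit [Finite G] in
theorem cz_le_of_zpowers {x u : G} (hu : u ∈ zpowers x) : cz x ≤ cz u :=
  CfsgLib.CentMax.cz_le_of_mem_zpowers hu

theorem cs_dvd_of_zpowers {x u : G} (hu : u ∈ zpowers x) : cs u ∣ cs x :=
  index_dvd_of_le (cz_le_of_zpowers hu)

/-- An element outside a subgroup has a primary component outside it. -/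
theorem exists_prim {S : Subgroup G} {x : G} (hx : x ∉ S) :
    ∃ p : ℕ, p.Prime ∧ ∃ u ∈ zpowers x, PE p u ∧ u ∉ S := by
  induction hn : orderOf x using Nat.strong_induction_on generalizing x with
  | h n ih =>
    subst hn
    have hx1 : x ≠ 1 := fun e => hx (e ▸ one_mem _)
    obtain ⟨p, hp, hpd⟩ := Nat.exists_prime_and_dvd (n := orderOf x) (mt orderOf_eq_one_iff.mp hx1)
    haveI := Fact.mk hp
    obtain ⟨a, b, hab, ha, hb, hak, hbo⟩ := CycSyl.split (p := p) x
    by_cases haz : a ∈ S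
    · have hbz : b ∉ S := fun hbz => hx (hab ▸ mul_mem haz hbz)
      have hlt : orderOf b < orderOf x :=
        lt_of_le_of_ne (Nat.le_of_dvd (orderOf_pos x) (orderOf_dvd_of_mem_zpowers hb)) fun e =>
          hp.ne_one (Nat.eq_one_of_dvd_coprimes hbo (e ▸ hpd) dvd_rfl)
      obtain ⟨q, hq, u, hu, huk, huz⟩ := ih _ hlt hbz rfl
      exact ⟨q, hq, u, (zpowers_le.mpr hb) hu, huk, huz⟩
    · exact ⟨p, hp, a, ha, hak, haz⟩

omit [Finite G] in
theorem pe_of_zpowers {p : ℕ} {x u : G} (hx : PE p x) (hu : u ∈ zpowers x) : PE p u :=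
  pn_of_mem_zpowers hx hu

/-! ### Indices -/

/-- The multiplicity of `p` in the index. -/
noncomputable def vp (p : ℕ) (L : Subgroup G) : ℕ := L.index.factorization p

theorem vp_add {p : ℕ} {L K : Subgroup G} (hLK : L ≤ K) :
    vp p L = (L.relIndex K).factorization p + vp p K := by
  unfold vp
  rw [← relIndex_mul_index hLK, Nat.factorization_mul _ index_ne_zero_of_finite, Finsupp.add_apply]
  exact index_ne_zero_of_finite (H := L.subgroupOf K)

theorem vp_mono {p : ℕ} {L K : Subgroup G} (hLK : L ≤ K) : vp p K ≤ vp p L := by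
  rw [vp_add (p := p) hLK]; omega

theorem not_dvd_relIndex {p : ℕ} (hp : p.Prime) {L K : Subgroup G} (hLK : L ≤ K)
    (hv : vp p L ≤ vp p K) : ¬ p ∣ L.relIndex K := fun hd => by
  have h1 := vp_add (p := p) hLK
  have h2 := (hp.dvd_iff_one_le_factorization (index_ne_zero_of_finite (H := L.subgroupOf K))).mp hd
  change 1 ≤ (L.relIndex K).factorization p at h2
  omega

/-- A `p`-element of `K` is conjugate in `K` into `L`. -/
theorem conj_into {p : ℕ} (hp : p.Prime) {L K : Subgroup G} (hd : ¬ p ∣ L.relIndex K) {u : G}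
    (hu : u ∈ K) (hpu : PE p u) : ∃ k ∈ K, k * u * k⁻¹ ∈ L := by
  haveI := Fact.mk hp
  obtain ⟨e, he⟩ := hpu
  obtain ⟨⟨k, hk⟩, hkL⟩ := Disc.exists_sylow_conj (G := K) (H := L.subgroupOf K) hd (u := ⟨u, hu⟩) (k := e)
    (Subtype.ext (by simpa using he))
  exact ⟨k, hk, by simpa [mem_subgroupOf] using hkL⟩

theorem conj_into' {p : ℕ} (hp : p.Prime) {L K : Subgroup G} (hLK : L ≤ K) (hv : vp p L ≤ vp p K) {u : G}
    (hu : u ∈ K) (hpu : PE p u) : ∃ k ∈ K, k * u * k⁻¹ ∈ L :=
  conj_into hp (not_dvd_relIndex hp hLK hv) hu hpu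

/-- If all `p`-elements of `K` lie in `L`, the multiplicity of `p` in the index of `L` is at most that of `K`. -/
theorem vp_le_of_forall {p : ℕ} (hp : p.Prime) {L K : Subgroup G}
    (hall : ∀ u ∈ K, PE p u → u ∈ L) : vp p L ≤ vp p K := by
  haveI := Fact.mk hp
  let P : Sylow p K := default
  have h1 : (P : Subgroup K).map K.subtype ≤ L := by
    rintro _ ⟨u, hu, rfl⟩
    obtain ⟨k, hk⟩ := P.isPGroup' ⟨u, hu⟩
    exact hall u u.2 ⟨k, congrArg (fun z : (P : Subgroup K) => ((z : K) : G)) hk⟩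
  refine (vp_mono h1).trans (le_of_eq ?_)
  unfold vp
  rw [index_map_subtype, Nat.factorization_mul index_ne_zero_of_finite index_ne_zero_of_finite,
    Finsupp.add_apply, Nat.factorization_eq_zero_of_not_dvd P.not_dvd_index, zero_add]

theorem index_inf_of_coprime {A B : Subgroup G} (h : A.index.Coprime B.index) :
    (A ⊓ B).index = A.index * B.index :=
  Nat.le_antisymm index_inf_le (Nat.le_of_dvd (Nat.pos_of_ne_zero index_ne_zero_of_finite)
    (h.mul_dvd_of_dvd_of_dvd (index_dvd_of_le inf_le_left) (index_dvd_of_le inf_le_right)))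

namespace Sz

variable {n m : ℕ}

theorem index_inf (h : Sz G n m) {a x : G} (ha : cs a = m) (hx : cs x = n) :
    (cz a ⊓ cz x).index = n * m := by
  rw [index_inf_of_coprime (h.cop_cs ha hx)]
  change cs a * cs x = _
  rw [ha, hx, mul_comm]

omit [Finite G] in
theorem vp_cs {p : ℕ} {g : G} {s : ℕ} (hg : cs g = s) : vp p (cz g) = s.factorization p := by
  rw [← hg]; rfl

omit [Finite G] in
/-- For `p ∣ n`. -/
theorem fact_nm (h : Sz G n m) {p : ℕ} (hp : p.Prime) (hpn : p ∣ n) :
    (n * m).factorization p = n.factorization p := by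
  rw [Nat.factorization_mul (by have := h.hn; omega) (by have := h.hm; omega), Finsupp.add_apply,
    Nat.factorization_eq_zero_of_not_dvd (h.not_dvd_m hp hpn), add_zero]

omit [Finite G] in
theorem fact_nm' (h : Sz G n m) {p : ℕ} (hp : p.Prime) (hpm : p ∣ m) :
    (n * m).factorization p = m.factorization p := by
  rw [mul_comm]; exact h.symm.fact_nm hp hpm

/-- The intersection of two centralisers of coprime indices `n`, `m` is not central. -/
theorem false_of_inf_le (h : Sz G n m) {a x : G} (ha : cs a = m) (hx : cs x = n)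
    (hle : cz a ⊓ cz x ≤ center G) : False := by
  obtain ⟨g, hg⟩ := h.exnm
  have h1 : (center G).index ≤ n * m := by
    rw [← h.index_inf ha hx]
    exact Nat.le_of_dvd (Nat.pos_of_ne_zero index_ne_zero_of_finite) (index_dvd_of_le hle)
  have h2 : center G ≤ cz g := center_le_centralizer _
  have h3 : cz g = center G := (eq_of_le_of_index h2 (by change _ ≤ cs g; rw [hg]; exact h1)).symm
  have h4 : g ∈ center G := h3 ▸ mem_cz.mpr rfl
  have h5 := cs_one_iff.mpr h4
  rw [hg] at h5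
  have := h.hn
  have := Nat.eq_one_of_mul_eq_one_right h5
  omega

/-- An element of class size `m` has a primary component of class size `m` outside any subgroup missing it. -/
theorem exists_prim_m (h : Sz G n m) {g : G} (hg : cs g = m) {S : Subgroup G} (hS : g ∉ S) (hZ : center G ≤ S) :
    ∃ p : ℕ, p.Prime ∧ ∃ u ∈ zpowers g, PE p u ∧ u ∉ S ∧ cs u = m := by
  obtain ⟨p, hp, u, hu, hpu, huS⟩ := exists_prim hS
  refine ⟨p, hp, u, hu, hpu, huS, ?_⟩
  rcases h.of_dvd_m (hg ▸ cs_dvd_of_zpowers hu) with h1 | h1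
  · exact absurd (hZ (cs_one_iff.mp h1)) huS
  · exact h1

theorem exists_primary_m (h : Sz G n m) : ∃ p : ℕ, p.Prime ∧ ∃ a : G, PE p a ∧ cs a = m := by
  obtain ⟨g, hg⟩ := h.exm
  have hgz : g ∉ center G := fun e => by
    have := cs_one_iff.mpr e; rw [hg] at this; have := h.hm; omega
  obtain ⟨p, hp, u, -, hpu, -, hu⟩ := h.exists_prim_m hg hgz le_rfl
  exact ⟨p, hp, u, hpu, hu⟩

theorem not_central_of_cs {g : G} {s : ℕ} (hg : cs g = s) (hs : 1 < s) : g ∉ center G := fun e => by
  have := cs_one_iff.mpr e; rw [hg] at this; omega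

end Sz

end CfsgLib.ConjTypeNM
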