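import Cfsg.Agent.Lib.ConjTypeNM.Basic
import Cfsg.Agent.Lib.Elementary

/-!
In a group with class sizes `1, n, m, nm` the elements of size `m` commute with those of size `n`.
-/

set_option autoImplicit false

namespace CfsgLib.ConjTypeNM

open Subgroup CfsgLib.CopClass

universe u
variable {G : Type u} [Group G] [Finite G] {n m : ℕ}

omit [Finite G] in
theorem kk_le_cz {a x : G} (h : ∀ g : G, Commute x (g * a * g⁻¹)) : kk a ≤ cz x := by
  refine (closure_le _).mpr ?_
  rintro _ ⟨g, rfl⟩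
  have h1 := h 1
  rw [one_mul, inv_one, mul_one] at h1
  exact mem_cz.mpr (h1.inv_right.mul_right (h g)).eq.symm

/-- An element of size `m` translates the class of a size `n` element it does not commute with. -/
theorem translate (h : Sz G n m) (hlt : m < n) {a x : G} (ha : cs a = m) (hx : cs x = n)
    (hnc : ¬ Commute a x) :
    (∀ k ∈ kk a, ∀ u ∈ cls x, k * u ∈ cls x) ∧ Nat.card (kk a) ∣ n := by
  have h1 := h.cop_cs ha hx
  have h2 : cs (a * x) = cs x := by
    have h3 := cs_mul_ge h1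
    rw [hx] at h3
    rcases h.val (a * x) with e | e | e | e
    · have := h.hn; omega
    · rw [e, hx]
    · omega
    · exfalso
      refine hnc ?_
      have h4 : cz a ⊓ cz x = cz (a * x) := eq_of_le_of_index (cs_mul_inf_le a x) (by
        rw [h.index_inf ha hx]; exact e.ge)
      have h5 : a * x ∈ cz a ⊓ cz x := h4 ▸ mem_cz.mpr rfl
      have h6 : a * x * a = a * (a * x) := mem_cz.mp h5.1
      rw [mul_assoc] at h6
      exact (mul_left_cancel h6).symm
  obtain ⟨h3, h4⟩ := kk_translate h1 h2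
  exact ⟨h3, hx ▸ h4⟩

theorem commute_of_not_dvd {a u : G} (hco : (cs a).Coprime (cs u)) {q : ℕ} (hq : q.Prime) (hu : PE q u)
    (hd : ¬ q ∣ cs a) : Commute a u := by
  haveI := Fact.mk hq
  obtain ⟨e, he⟩ := hu
  obtain ⟨g, hg⟩ := Disc.exists_sylow_conj hd he
  refine cross hco (g := g⁻¹) ?_
  rw [inv_inv]
  have h1 : Commute (g * u * g⁻¹) a := mem_cz.mp hg
  have h2 := (commute_conj_iff (w := g⁻¹)).mpr h1
  rw [inv_inv, show g⁻¹ * (g * u * g⁻¹) * g = u by group] at h2
  exact h2.symm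

/-- A non-commuting pair of primary elements. -/
structure Bad (n m r q : ℕ) (a t : G) : Prop where
  h : Sz G n m
  lt : m < n
  hr : r.Prime
  hq : q.Prime
  pa : PE r a
  pt : PE q t
  ca : cs a = m
  ct : cs t = n
  nc : ¬ Commute a t

namespace Bad

variable {r q : ℕ} {a t : G}

theorem card_dvd (hb : Bad n m r q a t) : Nat.card (kk a) ∣ n :=
  (translate hb.h hb.lt hb.ca hb.ct hb.nc).2

theorem trans_t (hb : Bad n m r q a t) : ∀ k ∈ kk a, ∀ u ∈ cls t, k * u ∈ cls t :=
  (translate hb.h hb.lt hb.ca hb.ct hb.nc).1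

theorem card_coprime (hb : Bad n m r q a t) : (Nat.card (kk a)).Coprime (cs a) := by
  rw [hb.ca]; exact hb.h.cop.coprime_dvd_left hb.card_dvd

theorem kk_comm_conj (hb : Bad n m r q a t) {k : G} (hk : k ∈ kk a) (g : G) : Commute k (g * a * g⁻¹) :=
  mem_cz.mp ((kk_abelian hb.card_coprime).1 g hk)

theorem kk_comm_a (hb : Bad n m r q a t) {k : G} (hk : k ∈ kk a) : Commute k a := by
  have := hb.kk_comm_conj hk 1
  rwa [one_mul, inv_one, mul_one] at this

theorem kk_pe (hb : Bad n m r q a t) {k : G} (hk : k ∈ kk a) : PE r k := by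
  have hab := (kk_abelian hb.card_coprime).2
  induction hk using closure_induction with
  | mem y hy =>
    obtain ⟨g, rfl⟩ := hy
    refine PE.mul hb.pa.inv (hb.pa.conj g) ?_
    have h1 := hb.kk_comm_a (gen_mem_kk a g)
    have h2 : Commute (a * (a⁻¹ * (g * a * g⁻¹))) a := (Commute.refl a).mul_left h1
    rw [mul_inv_cancel_left] at h2
    exact h2.symm.inv_left
  | one => exact PE.one r
  | mul x y hx hy ihx ihy => exact ihx.mul ihy (hab x hx y hy)
  | inv x _ ihx => exact ihx.inv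

theorem exists_decomp (hb : Bad n m r q a t) : ∃ z ∈ center G, ∃ k ∈ kk a, a = z * k :=
  exists_center_mul hb.card_coprime

theorem comm_a_of_centK (hb : Bad n m r q a t) {e : G} (he : ∀ k ∈ kk a, Commute e k) : Commute e a := by
  obtain ⟨z, hz, k, hk, e1⟩ := hb.exists_decomp
  rw [e1]
  exact Commute.mul_right (mem_center_iff.mp hz e) (he k hk)

theorem r_dvd_n (hb : Bad n m r q a t) : r ∣ n := by
  obtain ⟨z, hz, k, hk, e⟩ := hb.exists_decomp
  have hk1 : k ≠ 1 := fun h1 => by
    rw [h1, mul_one] at e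
    exact hb.nc (mem_center_iff.mp (e ▸ hz) t).symm
  haveI := Fact.mk hb.hr
  obtain ⟨j, hj⟩ := hb.kk_pe hk
  obtain ⟨i, -, hi⟩ := (Nat.dvd_prime_pow hb.hr).mp (orderOf_dvd_of_pow_eq_one hj)
  have hi0 : i ≠ 0 := fun h0 => hk1 (orderOf_eq_one_iff.mp (by rw [hi, h0, pow_zero]))
  exact ((dvd_pow_self r hi0).trans (hi ▸ dvd_rfl)).trans (((kk a).orderOf_dvd_natCard hk).trans hb.card_dvd)

theorem r_not_dvd_m (hb : Bad n m r q a t) : ¬ r ∣ m := hb.h.not_dvd_m hb.hr hb.r_dvd_n

/-- An `r`-element of size `n` commutes with `a`. -/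
theorem comm_a_of_r (hb : Bad n m r q a t) {x : G} (hx : cs x = n) (hpx : PE r x) : Commute a x :=
  commute_of_not_dvd (hb.h.cop_cs hb.ca hx) hb.hr hpx (hb.ca ▸ hb.r_not_dvd_m)

theorem q_dvd_m (hb : Bad n m r q a t) : q ∣ m := by
  by_contra hd
  exact hb.nc (commute_of_not_dvd (hb.h.cop_cs hb.ca hb.ct) hb.hq hb.pt (hb.ca ▸ hd))

theorem q_not_dvd_n (hb : Bad n m r q a t) : ¬ q ∣ n := hb.h.symm.not_dvd_m hb.hq hb.q_dvd_m

theorem ne (hb : Bad n m r q a t) : r ≠ q := fun e => hb.q_not_dvd_n (e ▸ hb.r_dvd_n)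

theorem fixed (hb : Bad n m r q a t) {k g : G} (hk : k ∈ kk a) (hc : Commute k (g * t * g⁻¹)) : k = 1 := by
  have h1 : g⁻¹ * k * g ∈ kk a := by simpa using (kk_normal a).conj_mem k hk g⁻¹
  have h2 : Commute (g⁻¹ * k * g) t := by
    have := (commute_conj_iff (w := g⁻¹)).mpr hc
    simpa [mul_assoc] using this
  have h3 : g⁻¹ * k * g = 1 := conj_translate_fixed (n := q)
    (fun l hl => (hb.kk_pe hl).orderOf_coprime hb.hr hb.hq hb.ne) hb.pt hb.trans_t h1 h2
  calc k = g * (g⁻¹ * k * g) * g⁻¹ := by group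
    _ = 1 := by rw [h3]; group

theorem centK_of_comm (hb : Bad n m r q a t) {e : G} (he : cs e = n) (hc : Commute a e) :
    ∀ k ∈ kk a, Commute e k := fun k hk =>
  (mem_cz.mp (kk_le_cz (fun g => (cross' (hb.h.cop_cs hb.ca he) hc g).symm) hk) : Commute k e).symm

theorem exists_conj_t (hb : Bad n m r q a t) {u : G} (hu : PE q u) :
    ∃ g : G, Commute u (g * t * g⁻¹) := by
  haveI := Fact.mk hb.hq
  obtain ⟨e, he⟩ := hu
  obtain ⟨g, hg⟩ := Disc.exists_sylow_conj (H := cz t)
    (show ¬ q ∣ cs t from hb.ct ▸ hb.q_not_dvd_n) he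
  refine ⟨g⁻¹, ?_⟩
  have h1 : Commute (g * u * g⁻¹) t := mem_cz.mp hg
  have h2 := (commute_conj_iff (w := g⁻¹)).mpr h1
  rw [inv_inv, show g⁻¹ * (g * u * g⁻¹) * g = u by group] at h2
  rwa [inv_inv]

theorem comm_conj_false (hb : Bad n m r q a t) {g : G} (hc : Commute a (g * t * g⁻¹)) : False :=
  hb.nc (cross (hb.h.cop_cs hb.ca hb.ct).symm (g := g) hc.symm).symm

/-- No `q`-element has class size `m`. -/
theorem no_qm (hb : Bad n m r q a t) {e : G} (he : PE q e) : cs e ≠ m := by
  intro hem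
  have hcomm : ∀ x : G, cs x = n → Commute e x := fun x hx => by
    by_contra hnc
    obtain ⟨j, hj⟩ := he
    obtain ⟨p, hp, v, hv, hpv, hvs⟩ := exists_prim (S := cz e) (x := x) (fun hxe => hnc (mem_cz.mp hxe : Commute x e).symm)
    have hvn : cs v = n := by
      rcases hb.h.of_dvd_n (hx ▸ cs_dvd_of_zpowers hv) with h1 | h1
      · exact absurd (center_le_centralizer _ (cs_one_iff.mp h1)) hvs
      · exact h1
    have hb' : Bad n m q p e v := ⟨hb.h, hb.lt, hb.hq, hp, ⟨j, hj⟩, hpv, hem, hvn,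
      fun hc => hvs (mem_cz.mpr hc.eq.symm)⟩
    exact hb.q_not_dvd_n hb'.r_dvd_n
  have hK : ∀ k ∈ kk a, Commute e k := fun k hk => by
    obtain ⟨g, hg⟩ := hb.trans_t k hk t ⟨1, by group⟩
    have h1 : Commute e (k * t) := by
      rw [← show g * t * g⁻¹ = k * t from hg]
      exact hcomm _ (by rw [cs_conj, hb.ct])
    have := h1.mul_right (hcomm t hb.ct).inv_right
    rwa [mul_inv_cancel_right] at this
  have hea : Commute e a := hb.comm_a_of_centK hK
  have hcz : cz (a * e) = cz a ⊓ cz e := mul_cz hb.hr hb.hq hb.ne hb.pa he hea.symm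
  have ht' : Commute e t := hcomm t hb.ct
  rcases hb.h.eq_m_or (g := a * e) (hb.ca ▸ index_dvd_of_le ((le_of_eq hcz).trans inf_le_left)) with h1 | h1
  · have h2 : cz (a * e) = cz e := eq_of_le_of_index ((le_of_eq hcz).trans inf_le_right) (by
      change cs (a * e) ≤ cs e; rw [h1, hem])
    have h3 : t ∈ cz a := ((le_of_eq h2.symm).trans ((le_of_eq hcz).trans inf_le_left)) (mem_cz.mpr ht'.symm.eq)
    exact hb.nc (mem_cz.mp h3 : Commute t a).symm
  · have hv : vp q (cz (a * e)) ≤ vp q (cz e) := by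
      rw [Sz.vp_cs h1, Sz.vp_cs hem, hb.h.fact_nm' hb.hq hb.q_dvd_m]
    obtain ⟨k, -, hk⟩ := conj_into' hb.hq ((le_of_eq hcz).trans inf_le_right) hv
      (mem_cz.mpr ht'.symm.eq) hb.pt
    rw [hcz] at hk
    exact hb.comm_conj_false (mem_cz.mp hk.1 : Commute _ a).symm

/-- A `q`-element fixing a non-trivial translation commutes with `a`. -/
theorem comm_of_fixes (hb : Bad n m r q a t) {e k : G} (he : PE q e) (hk : k ∈ kk a) (hk1 : k ≠ 1)
    (hc : Commute e k) : Commute e a := by
  rcases hb.h.val e with h1 | h1 | h1 | h1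
  · exact (mem_center_iff.mp (cs_one_iff.mp h1) a).symm
  · by_contra hnc
    obtain ⟨h2, -⟩ := translate hb.h hb.lt hb.ca h1 (fun h => hnc h.symm)
    exact hk1 (conj_translate_fixed (n := q) (fun l hl => (hb.kk_pe hl).orderOf_coprime hb.hr hb.hq hb.ne) he h2 hk hc.symm)
  · exact absurd h1 (hb.no_qm he)
  · exfalso
    have h2 : cz (e * k) = cz e ⊓ cz k := mul_cz hb.hq hb.hr (Ne.symm hb.ne) he (hb.kk_pe hk) hc
    have hle : cz (e * k) ≤ cz e := (le_of_eq h2).trans inf_le_left
    have h4 : cz (e * k) = cz e := eq_of_le_of_index hle (by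
      change cs (e * k) ≤ cs e
      rw [h1]
      exact Nat.le_of_dvd (Nat.mul_pos (by have := hb.h.hn; omega) (by have := hb.h.hm; omega)) (hb.h.cs_dvd _))
    obtain ⟨g, hg⟩ := hb.exists_conj_t he
    have h5 : g * t * g⁻¹ ∈ cz k := ((le_of_eq h4.symm).trans ((le_of_eq h2).trans inf_le_right)) (mem_cz.mpr hg.symm.eq)
    exact hk1 (hb.fixed hk (mem_cz.mp h5 : Commute _ k).symm)

/-- The `r`-elements commuting with `t` are central. -/
theorem r_central (hb : Bad n m r q a t) {x : G} (hx : PE r x) (hxt : Commute x t) : x ∈ center G := by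
  haveI := Fact.mk hb.hr
  by_contra hxz
  have hne1 : ∃ k ∈ kk a, k ≠ (1 : G) := by
    obtain ⟨z, hz, k, hk, e⟩ := hb.exists_decomp
    refine ⟨k, hk, fun h1 => ?_⟩
    rw [h1, mul_one] at e
    exact hb.nc (mem_center_iff.mp (e ▸ hz) t).symm
  have hxtc : cz (x * t) = cz x ⊓ cz t := mul_cz hb.hr hb.hq hb.ne hx hb.pt hxt
  have hn0 : 0 < n * m := Nat.mul_pos (by have := hb.h.hn; omega) (by have := hb.h.hm; omega)
  rcases hb.h.val x with h1 | h1 | h1 | h1
  · exact hxz (cs_one_iff.mp h1)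
  · have hK := hb.centK_of_comm h1 (hb.comm_a_of_r h1 hx)
    obtain ⟨k, hk, hk1⟩ := hne1
    rcases hb.h.eq_n_or (g := x * t) (hb.ct ▸ index_dvd_of_le ((le_of_eq hxtc).trans inf_le_right)) with h2 | h2
    · have h3 : cz (x * t) = cz x := eq_of_le_of_index ((le_of_eq hxtc).trans inf_le_left) (by
        change cs (x * t) ≤ cs x; rw [h1, h2])
      have h4 : k ∈ cz t := ((le_of_eq h3.symm).trans ((le_of_eq hxtc).trans inf_le_right)) (mem_cz.mpr (hK k hk).symm.eq)
      refine hk1 (hb.fixed (g := 1) hk ?_)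
      rw [one_mul, inv_one, mul_one]
      exact mem_cz.mp h4
    · have hv : vp r (cz (x * t)) ≤ vp r (cz x) := by
        rw [Sz.vp_cs h2, Sz.vp_cs h1, hb.h.fact_nm hb.hr hb.r_dvd_n]
      obtain ⟨w, -, hw⟩ := conj_into' hb.hr ((le_of_eq hxtc).trans inf_le_left) hv
        (mem_cz.mpr (hK k hk).symm.eq) (hb.kk_pe hk)
      rw [hxtc] at hw
      have h5 := hb.fixed (g := 1) ((kk_normal a).conj_mem k hk w) (by
        rw [one_mul, inv_one, mul_one]; exact mem_cz.mp hw.2)
      exact hk1 (conj_eq_one_iff.mp h5)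
  · -- the size `m`
    have hxa : Commute x a := by
      refine hb.comm_a_of_centK fun k hk => ?_
      obtain ⟨g, hg⟩ := hb.trans_t k hk t ⟨1, by group⟩
      have h2 : Commute x (k * t) := by
        rw [← show g * t * g⁻¹ = k * t from hg]
        exact (cross' (hb.h.cop_cs h1 hb.ct).symm hxt.symm g).symm
      have := h2.mul_right hxt.inv_right
      rwa [mul_inv_cancel_right] at this
    have hxat : ¬ Commute (x * a) t := fun hc => hb.nc (by
      have := hxt.inv_left.mul_left hc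
      rwa [inv_mul_cancel_left] at this)
    have hpxa : PE r (x * a) := hx.mul hb.pa hxa
    have hS : cz a ⊓ cz (x * a) ≤ cz x := fun g hg => by
      have h2 : Commute g (x * a * a⁻¹) := (show Commute g (x * a) from mem_cz.mp hg.2).mul_right (show Commute g a from mem_cz.mp hg.1).inv_right
      rw [mul_inv_cancel_right] at h2
      exact mem_cz.mpr h2.eq
    suffices hv : vp q (cz a ⊓ cz (x * a)) ≤ m.factorization q by
      obtain ⟨g, -, hg⟩ := conj_into' hb.hq hS (hv.trans_eq (Sz.vp_cs h1).symm)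
        (mem_cz.mpr hxt.symm.eq) hb.pt
      exact hb.comm_conj_false (mem_cz.mp hg.1 : Commute _ a).symm
    rcases hb.h.val (x * a) with e | e | e | e
    · exact absurd (mem_center_iff.mp (cs_one_iff.mp e) t).symm hxat
    · rw [show vp q (cz a ⊓ cz (x * a)) = (n * m).factorization q from by
        unfold vp; rw [hb.h.index_inf hb.ca e]]
      exact (hb.h.fact_nm' hb.hq hb.q_dvd_m).le
    · have hb' : Bad n m r q (x * a) t := ⟨hb.h, hb.lt, hb.hr, hb.hq, hpxa, hb.pt, e, hb.ct, hxat⟩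
      have hk : t⁻¹ * a * t * a⁻¹ ∈ kk a := by
        have := (kk_normal a).conj_mem _ (gen_mem_kk a t⁻¹) a
        convert this using 1; group
      have hk' : t⁻¹ * a * t * a⁻¹ ∈ kk (x * a) := by
        have := (kk_normal (x * a)).conj_mem _ (gen_mem_kk (x * a) t⁻¹) (x * a)
        convert this using 1
        have e1 : t⁻¹ * (x * a) * t * (x * a)⁻¹ = t⁻¹ * a * t * a⁻¹ := by
          have e2 : t⁻¹ * (x * a) * t = x * (t⁻¹ * a * t) := by
            calc t⁻¹ * (x * a) * t = (t⁻¹ * x) * a * t := by group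
              _ = (x * t⁻¹) * a * t := by rw [hxt.inv_right.eq]
              _ = _ := by group
          have e3 : Commute x (t⁻¹ * a * t * a⁻¹) :=
            ((hxt.inv_right.mul_right hxa).mul_right hxt).mul_right hxa.inv_right
          calc t⁻¹ * (x * a) * t * (x * a)⁻¹ = x * (t⁻¹ * a * t * a⁻¹) * x⁻¹ := by rw [e2]; group
            _ = _ := by rw [e3.eq]; group
        rw [← e1]; group
      have hk1 : t⁻¹ * a * t * a⁻¹ ≠ 1 := fun h0 => hb.nc (by
        have := mul_inv_eq_one.mp h0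
        calc a * t = t * (t⁻¹ * a * t) := by group
          _ = t * a := by rw [this])
      refine (vp_le_of_forall hb.hq (L := cz a ⊓ cz (x * a)) (K := cz (x * a)) fun u hu hpu => ⟨mem_cz.mpr ?_, hu⟩).trans_eq (Sz.vp_cs e)
      have hua : Commute u (x * a) := mem_cz.mp hu
      rcases hb.h.val u with h2 | h2 | h2 | h2
      · exact ((mem_center_iff.mp (cs_one_iff.mp h2) a).symm)
      · have h3 := hb'.centK_of_comm h2 hua.symm _ hk'
        exact (hb.comm_of_fixes hpu hk hk1 h3).eq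
      · exact absurd h2 (hb.no_qm hpu)
      · exfalso
        have h3 : cz (u * (x * a)) = cz u ⊓ cz (x * a) := mul_cz hb.hq hb.hr (Ne.symm hb.ne) hpu hpxa hua
        have h4 : cz (u * (x * a)) = cz u := eq_of_le_of_index ((le_of_eq h3).trans inf_le_left) (by
          change cs (u * (x * a)) ≤ cs u; rw [h2]; exact Nat.le_of_dvd hn0 (hb.h.cs_dvd _))
        obtain ⟨g, hg⟩ := hb.exists_conj_t hpu
        have h5 : g * t * g⁻¹ ∈ cz (x * a) :=
          ((le_of_eq h4.symm).trans ((le_of_eq h3).trans inf_le_right)) (mem_cz.mpr hg.symm.eq)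
        exact hb'.comm_conj_false (mem_cz.mp h5 : Commute _ (x * a)).symm
    · refine (vp_le_of_forall hb.hq (L := cz a ⊓ cz (x * a)) (K := cz (x * a)) fun u hu hpu => ⟨mem_cz.mpr ?_, hu⟩).trans_eq
        ((Sz.vp_cs e).trans (hb.h.fact_nm' hb.hq hb.q_dvd_m))
      have hua : Commute u (x * a) := mem_cz.mp hu
      obtain ⟨k, hk, hk1⟩ := hne1
      have h3 : cz (u * (x * a)) = cz u ⊓ cz (x * a) := mul_cz hb.hq hb.hr (Ne.symm hb.ne) hpu hpxa hua
      have h4 : cz (u * (x * a)) = cz (x * a) := eq_of_le_of_index ((le_of_eq h3).trans inf_le_right) (by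
        change cs (u * (x * a)) ≤ cs (x * a); rw [e]; exact Nat.le_of_dvd hn0 (hb.h.cs_dvd _))
      have hkx : Commute k x := by
        obtain ⟨g, hg⟩ := hb.trans_t k hk t ⟨1, by group⟩
        have h2 : Commute x (k * t) := by
          rw [← show g * t * g⁻¹ = k * t from hg]
          exact (cross' (hb.h.cop_cs h1 hb.ct).symm hxt.symm g).symm
        have := h2.mul_right hxt.inv_right
        rw [mul_inv_cancel_right] at this
        exact this.symm
      have h5 : k ∈ cz u := ((le_of_eq h4.symm).trans ((le_of_eq h3).trans inf_le_left))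
        (mem_cz.mpr (hkx.mul_right (hb.kk_comm_a hk)).eq)
      exact (hb.comm_of_fixes hpu hk hk1 (mem_cz.mp h5 : Commute k u).symm).eq
  · -- the size `nm`
    have h2 : cz (x * t) = cz x := eq_of_le_of_index ((le_of_eq hxtc).trans inf_le_left) (by
      change cs (x * t) ≤ cs x; rw [h1]; exact Nat.le_of_dvd hn0 (hb.h.cs_dvd _))
    have hle : cz x ≤ cz t := (le_of_eq h2.symm).trans ((le_of_eq hxtc).trans inf_le_right)
    haveI := kk_normal a
    have hX : IsPGroup r (kk a ⊔ zpowers x : Subgroup G) := by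
      refine IsPGroup.to_sup_of_normal_left ?_ ?_
      · rintro ⟨k, hk⟩
        obtain ⟨j, hj⟩ := hb.kk_pe hk
        exact ⟨j, Subtype.ext (by simpa using hj)⟩
      · rintro ⟨k, hk⟩
        obtain ⟨j, hj⟩ := pe_of_zpowers hx hk
        exact ⟨j, Subtype.ext (by simpa using hj)⟩
    haveI := hX.isNilpotent
    have hD : ((kk a).subgroupOf (kk a ⊔ zpowers x)) ≠ ⊥ := by
      obtain ⟨k, hk, hk1⟩ := hne1
      intro h0
      rw [eq_bot_iff_forall] at h0
      exact hk1 (congrArg (fun z : (kk a ⊔ zpowers x : Subgroup G) => (z : G)) (h0 ⟨k, mem_sup_left hk⟩ hk))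
    obtain ⟨⟨c, hc⟩, hcm, hc1⟩ : ∃ z ∈ (kk a).subgroupOf (kk a ⊔ zpowers x) ⊓ center (kk a ⊔ zpowers x : Subgroup G), z ≠ 1 :=
      ((bot_or_exists_ne_one _).resolve_left (CfsgLib.inf_center_ne_bot_of_nilpotent hD))
    have hcx : Commute c x :=
      (congrArg Subtype.val (mem_center_iff.mp hcm.2 ⟨x, mem_sup_right (mem_zpowers x)⟩)).symm
    refine hc1 (Subtype.ext (hb.fixed (g := 1) (k := c) hcm.1 ?_))
    rw [one_mul, inv_one, mul_one]
    exact mem_cz.mp (hle (mem_cz.mpr hcx.eq))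

theorem false (hb : Bad n m r q a t) : False := by
  have hZ : ¬ (a ∈ center G) := fun e => hb.nc (mem_center_iff.mp e t).symm
  have hvr : vp r (center G) ≤ n.factorization r :=
    (vp_le_of_forall hb.hr fun u hu hpu => hb.r_central hpu (mem_cz.mp hu)).trans_eq (Sz.vp_cs hb.ct)
  have key : ∀ g : G, Commute g a → cs g = 1 ∨ cs g = m := by
    intro g hg
    by_contra hcon
    push Not at hcon
    have hn' : n ∣ cs g := by
      rcases hb.h.val g with h1 | h1 | h1 | h1
      · exact absurd h1 hcon.1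
      · rw [h1]
      · exact absurd h1 hcon.2
      · rw [h1]; exact dvd_mul_right n m
    have hv : vp r (center G) ≤ vp r (cz g) := by
      rcases hb.h.eq_n_or hn' with h1 | h1
      · rw [Sz.vp_cs h1]; exact hvr
      · rw [Sz.vp_cs h1, hb.h.fact_nm hb.hr hb.r_dvd_n]; exact hvr
    obtain ⟨k, -, hk⟩ := conj_into' hb.hr (center_le_centralizer _) hv (mem_cz.mpr hg.symm.eq) hb.pa
    exact hZ (by simpa [mul_assoc] using (inferInstance : (center G).Normal).conj_mem _ hk k⁻¹)
  have hvq : vp q (center G) ≤ m.factorization q := by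
    refine (vp_le_of_forall hb.hq fun u hu hpu => ?_).trans_eq (Sz.vp_cs hb.ca)
    rcases key u (mem_cz.mp hu) with h1 | h1
    · exact cs_one_iff.mp h1
    · exact absurd h1 (hb.no_qm hpu)
  have key' : ∀ g : G, Commute g t → cs g = 1 ∨ cs g = n := by
    intro g hg
    by_contra hcon
    push Not at hcon
    have hm' : m ∣ cs g := by
      rcases hb.h.val g with h1 | h1 | h1 | h1
      · exact absurd h1 hcon.1
      · exact absurd h1 hcon.2
      · rw [h1]
      · rw [h1]; exact dvd_mul_left m n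
    have hv : vp q (center G) ≤ vp q (cz g) := by
      rcases hb.h.eq_m_or hm' with h1 | h1
      · rw [Sz.vp_cs h1]; exact hvq
      · rw [Sz.vp_cs h1, hb.h.fact_nm' hb.hq hb.q_dvd_m]; exact hvq
    obtain ⟨k, -, hk⟩ := conj_into' hb.hq (center_le_centralizer _) hv (mem_cz.mpr hg.symm.eq) hb.pt
    have ht : t ∈ center G := by simpa [mul_assoc] using (inferInstance : (center G).Normal).conj_mem _ hk k⁻¹
    exact hb.nc (mem_center_iff.mp ht a)
  refine hb.h.false_of_inf_le hb.ca hb.ct fun g hg => ?_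
  rcases key g (mem_cz.mp hg.1) with h1 | h1
  · exact cs_one_iff.mp h1
  · rcases key' g (mem_cz.mp hg.2) with h2 | h2
    · exact cs_one_iff.mp h2
    · exfalso
      rw [h1] at h2
      exact hb.h.not_n_dvd_m (h2 ▸ dvd_rfl)

end Bad

/-- Elements of size `m` commute with elements of size `n`. -/
theorem commute_mn (h : Sz G n m) {a x : G} (ha : cs a = m) (hx : cs x = n) : Commute a x := by
  by_contra hnc
  obtain ⟨r, hr, u, -, hpu, hus, hu⟩ := h.exists_prim_m ha (S := cz x) (fun hax => hnc (mem_cz.mp hax))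
    (center_le_centralizer _)
  obtain ⟨q, hq, v, -, hpv, hvs, hv⟩ := h.symm.exists_prim_m hx (S := cz u)
    (fun hxu => hus (mem_cz.mpr (mem_cz.mp hxu).symm)) (center_le_centralizer _)
  have hnc' : ¬ Commute u v := fun hc => hvs (mem_cz.mpr hc.eq.symm)
  rcases lt_trichotomy m n with hlt | hlt | hlt
  · exact (⟨h, hlt, hr, hq, hpu, hpv, hu, hv, hnc'⟩ : Bad n m r q u v).false
  · exact h.not_n_dvd_m (hlt ▸ dvd_rfl)
  · exact (⟨h.symm, hlt, hq, hr, hpv, hpu, hv, hu, fun hc => hnc' hc.symm⟩ : Bad m n q r v u).false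

end CfsgLib.ConjTypeNM
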