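import Cfsg.Agent.Lib.ConjTypeNM.Commute
import Cfsg.Agent.Lib.SylowExtra
import Cfsg.Agent.Lib.JordanCover
import Cfsg.Agent.Lib.Fusion.Hyperfocal
import Cfsg.Agent.S4134

/-!
In a group with class sizes `1, n, m, nm` both `n` and `m` are prime powers.
-/

set_option autoImplicit false

namespace CfsgLib.ConjTypeNM

open Subgroup CfsgLib.CopClass

universe u
variable {G : Type u} [Group G] [Finite G] {n m : ℕ}

/-- If every `p'`-element centralises a Sylow subgroup, it centralises all of them, and there is only one. -/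
theorem sylow_centralized {p : ℕ} [Fact p.Prime] (hw : ∀ w : G, (orderOf w).Coprime p → ¬ p ∣ cs w)
    (P : Sylow p G) : (P : Subgroup G).Normal ∧
      ∀ w : G, (orderOf w).Coprime p → ∀ z ∈ (P : Subgroup G), Commute z w := by
  have hp : p.Prime := Fact.out
  have hmove : ∀ (Q : Sylow p G), ∃ x : G, ∀ z : G, z ∈ (P : Subgroup G) ↔ x⁻¹ * z * x ∈ (Q : Subgroup G) :=
    fun Q => by
    obtain ⟨x, hx⟩ := MulAction.exists_smul_eq G Q P
    refine ⟨x, fun z => ?_⟩
    rw [← hx, Sylow.coe_subgroup_smul, mem_pointwise_smul_iff_inv_smul_mem]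
    simp [MulAut.smul_def]
  have htop : (P : Subgroup G) ⊔ centralizer ((P : Subgroup G) : Set G) = ⊤ := by
    refine CfsgLib.eq_top_of_conj_cover _ fun g => ?_
    obtain ⟨a, b, hab, ha, hb, hak, hbo⟩ := CycSyl.split (p := p) g
    obtain ⟨Q, hQ⟩ := CfsgLib.exists_sylow_le_of_not_dvd_index (cz b) (hw b hbo)
    have hab' : Commute a b := by
      obtain ⟨i, rfl⟩ := ha
      obtain ⟨j, rfl⟩ := hb
      exact Commute.zpow_zpow_self g i j
    have hd : ¬ p ∣ (Q : Subgroup G).relIndex (cz b) :=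
      fun h => Q.not_dvd_index (h.trans (Dvd.intro _ (relIndex_mul_index hQ)))
    obtain ⟨l, hl, hla⟩ := conj_into hp hd (mem_cz.mpr hab'.eq) hak
    obtain ⟨x, hx⟩ := hmove Q
    refine ⟨x * l, ?_⟩
    have e : x * l * g * (x * l)⁻¹ = (x * (l * a * l⁻¹) * x⁻¹) * (x * b * x⁻¹) := by
      rw [← hab]
      calc x * l * (a * b) * (x * l)⁻¹ = (x * (l * a * l⁻¹) * x⁻¹) * (x * (l * b * l⁻¹) * x⁻¹) := by group
        _ = _ := by rw [mem_cz_iff_conj.mp hl]
    rw [e]
    refine mul_mem (mem_sup_left ((hx _).mpr ?_)) (mem_sup_right (mem_centralizer_iff.mpr fun z hz => ?_))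
    · rwa [show x⁻¹ * (x * (l * a * l⁻¹) * x⁻¹) * x = l * a * l⁻¹ by group]
    · have h1 : Commute (x⁻¹ * z * x) b := mem_cz.mp (hQ ((hx z).mp hz))
      have h2 := (commute_conj_iff (w := x)).mpr h1
      rw [show x * (x⁻¹ * z * x) * x⁻¹ = z by group] at h2
      exact h2.eq
  have hPn : (P : Subgroup G).Normal := by
    rw [← normalizer_eq_top_iff, eq_top_iff, ← htop]
    exact sup_le le_normalizer (centralizer_le_normalizer _)
  refine ⟨hPn, fun w hwo z hz => ?_⟩
  haveI := Sylow.unique_of_normal P hPn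
  obtain ⟨Q, hQ⟩ := CfsgLib.exists_sylow_le_of_not_dvd_index (cz w) (hw w hwo)
  rw [Subsingleton.elim P Q] at hz
  exact mem_cz.mp (hQ hz)

omit [Finite G] in
theorem cs_sub {K : Subgroup G} (w : K) : cs w = (cz (w : G)).relIndex K := by
  show (cz w).index = ((cz (w : G)).subgroupOf K).index
  congr 1
  ext x
  rw [mem_subgroupOf, mem_cz, mem_cz, Subtype.ext_iff]
  rfl

theorem mem_of_coprime_index {N : Subgroup G} [N.Normal] {g : G} (h : (orderOf g).Coprime N.index) :
    g ∈ N := by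
  rw [← QuotientGroup.eq_one_iff (N := N), ← orderOf_eq_one_iff]
  refine Nat.eq_one_of_dvd_coprimes h (orderOf_map_dvd (QuotientGroup.mk' N) g) ?_
  rw [index_eq_card]
  exact orderOf_dvd_natCard _

theorem relIndex_eq_of_sup {C N : Subgroup G} [N.Normal] (h : C ⊔ N = ⊤) : C.relIndex N = C.index := by
  have p1 := relIndex_mul_relIndex (C ⊓ N) C (C ⊔ N) inf_le_left le_sup_left
  have p2 := relIndex_mul_relIndex (C ⊓ N) N (C ⊔ N) inf_le_right le_sup_right
  rw [inf_relIndex_left] at p1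
  rw [inf_relIndex_right, relIndex_sup_right] at p2
  rw [← p2, mul_comm _ (N.relIndex C), h, relIndex_top_right] at p1
  exact (Nat.eq_of_mul_eq_mul_left (Nat.pos_of_ne_zero (index_ne_zero_of_finite (H := N.subgroupOf C))) p1).symm

theorem Sz.relIndex_cases (h : Sz G n m) {r : ℕ} {a w : G} (ha : PE r a) (ca : cs a = m) (hw : w ∈ cz a)
    (hwo : (orderOf w).Coprime r) : (cz w).relIndex (cz a) = 1 ∨ (cz w).relIndex (cz a) = n := by
  have hc : cz (a * w) = cz a ⊓ cz w := inf_cz_eq (mem_cz.mp hw : Commute w a).symm (ha.co hwo)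
  have h1 : (cz w).relIndex (cz a) * m = cs (a * w) := by
    show _ = (cz (a * w)).index
    rw [hc, ← relIndex_mul_index (inf_le_left : cz a ⊓ cz w ≤ cz a), inf_relIndex_left]
    show _ = _ * cs a
    rw [ca]
  have hm0 : 0 < m := by have := h.hm; omega
  rcases h.eq_m_or (g := a * w) ⟨_, by rw [← h1, mul_comm]⟩ with h2 | h2
  · left; rw [h2] at h1; exact (Nat.mul_eq_right hm0.ne').mp h1
  · right; rw [h2] at h1; exact Nat.eq_of_mul_eq_mul_right hm0 h1

/-- In `C(a)` the `r'`-elements commute with the `r`-elements, if `r` does not divide `n`. -/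
theorem Sz.comm_cz (h : Sz G n m) {r : ℕ} (hr : r.Prime) {a : G} (ha : PE r a) (ca : cs a = m)
    (hrn : ¬ r ∣ n) {y w : G} (hy : y ∈ cz a) (hw : w ∈ cz a) (hpy : PE r y) (hwo : (orderOf w).Coprime r) :
    Commute y w := by
  haveI := Fact.mk hr
  have hsy : ∀ v : cz a, (orderOf v).Coprime r → ¬ r ∣ cs v := fun v hv => by
    rw [← Subgroup.orderOf_coe] at hv
    rw [cs_sub]
    rcases h.relIndex_cases ha ca v.2 hv with h1 | h1 <;> rw [h1]
    · exact hr.not_dvd_one
    · exact hrn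
  let P : Sylow r (cz a) := default
  obtain ⟨hn, hc⟩ := sylow_centralized hsy P
  haveI := Sylow.unique_of_normal P hn
  have hyP : (⟨y, hy⟩ : cz a) ∈ (P : Subgroup (cz a)) := by
    obtain ⟨k, hk⟩ := hpy
    have hk' : (⟨y, hy⟩ : cz a) ^ r ^ k = 1 := Subtype.ext (by simpa using hk)
    have hY : IsPGroup r (zpowers (⟨y, hy⟩ : cz a)) := by
      obtain ⟨j, -, hj⟩ := (Nat.dvd_prime_pow hr).mp (orderOf_dvd_of_pow_eq_one hk')
      exact IsPGroup.of_card (by rw [Nat.card_zpowers, hj])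
    obtain ⟨Q, hQ⟩ := hY.exists_le_sylow
    rw [Subsingleton.elim P Q]
    exact hQ (mem_zpowers _)
  exact congrArg Subtype.val (hc ⟨w, hw⟩ (by rw [← Subgroup.orderOf_coe]; exact hwo) _ hyP)

/-- The centre of a centraliser, inside `G`. -/
abbrev Zh (a : G) : Subgroup G := cz a ⊓ centralizer ((cz a : Subgroup G) : Set G)

omit [Finite G] in
theorem mem_zh {a u : G} : u ∈ Zh a ↔ u ∈ cz a ∧ ∀ y ∈ cz a, Commute y u := by
  rw [Zh, mem_inf, mem_centralizer_iff]
  exact Iff.rfl

omit [Finite G] in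
theorem zh_conj {a k u : G} (hk : k ∈ cz a) (hv : k * u * k⁻¹ ∈ Zh a) : u ∈ Zh a := by
  have h1 : Commute k (k * u * k⁻¹) := (mem_zh.mp hv).2 k hk
  have h2 : u = k * u * k⁻¹ := by
    have h3 : k * (k * u * k⁻¹) * k⁻¹ = k * u * k⁻¹ := by rw [h1.eq]; group
    have h4 : k * u * k⁻¹ = u := by
      refine mul_left_cancel (a := k) (mul_right_cancel (b := k⁻¹) ?_)
      rw [h3]
    exact h4.symm
  rw [h2]; exact hv

omit [Finite G] in
theorem center_le_zh (a : G) : center G ≤ Zh a := fun _ hz =>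
  mem_zh.mpr ⟨center_le_centralizer _ hz, fun y _ => (mem_center_iff.mp hz y)⟩

/-- A primary element of size `m` whose prime does not divide `n`. -/
theorem Sz.isPrimePow_of_not_dvd (h : Sz G n m) {r : ℕ} (hr : r.Prime) {a : G} (ha : PE r a)
    (ca : cs a = m) (hrn : ¬ r ∣ n) : IsPrimePow n := by
  haveI := Fact.mk hr
  by_cases hB : ∃ w ∈ cz a, (orderOf w).Coprime r ∧ ¬ cz a ≤ cz w
  · obtain ⟨w, hw, hwo, hwH⟩ := hB
    let P : Sylow r (cz a) := default
    have hco : ∀ y v : cz a, PE r y → (orderOf v).Coprime r → Commute y v := fun y v ⟨k, hk⟩ hv =>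
      Subtype.ext (h.comm_cz hr ha ca hrn y.2 v.2 ⟨k, by simpa using congrArg Subtype.val hk⟩
        (by rw [Subgroup.orderOf_coe]; exact hv))
    have hpe : ∀ (Q : Sylow r (cz a)) (z : cz a), z ∈ (Q : Subgroup (cz a)) → PE r z := fun Q z hz => by
      obtain ⟨k, hk⟩ := Q.isPGroup' ⟨z, hz⟩
      exact ⟨k, congrArg Subtype.val hk⟩
    obtain ⟨Q, N, hN, hc⟩ := Cfsg.FusionSystem.hasNormalPComplement_of_centralizes P fun Q hQ g _ hg =>
      mem_centralizer_iff.mpr fun z hz => (hco z g (hpe P z (hQ hz)) hg).eq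
    have hNco : (Nat.card N).Coprime r := by
      rw [← hc.index_eq_card]
      exact ((Nat.Prime.coprime_iff_not_dvd hr).mpr Q.not_dvd_index).symm
    have hidx : ∀ v : N, (centralizer ({v} : Set N)).index = (cz ((v : cz a) : G)).relIndex (cz a) := by
      intro v
      have hv : (orderOf (v : cz a)).Coprime r := hNco.coprime_dvd_left (N.orderOf_dvd_natCard v.2)
      show cs v = _
      rw [cs_sub, relIndex_eq_of_sup]
      · exact cs_sub (v : cz a)
      · rw [eq_top_iff, ← hc.sup_eq_top]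
        exact sup_le le_sup_right (le_trans (fun z hz => mem_cz.mpr (hco z v (hpe Q z hz) hv).eq) le_sup_left)
    have hwN : (⟨w, hw⟩ : cz a) ∈ N := by
      refine mem_of_coprime_index ?_
      rw [hc.symm.index_eq_card, Q.card_eq_multiplicity, Subgroup.orderOf_mk]
      exact hwo.pow_right _
    obtain ⟨p, hp, k, hk, -⟩ := Cfsg.Agent.S4134.result (G := N) n h.hn (fun v => by
      rw [hidx v]
      exact h.relIndex_cases ha ca v.1.2 (by
        rw [Subgroup.orderOf_coe]; exact hNco.coprime_dvd_left (N.orderOf_dvd_natCard v.2)))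
      ⟨⟨⟨w, hw⟩, hwN⟩, by
        rw [hidx]
        rcases h.relIndex_cases ha ca hw hwo with h1 | h1
        · exact absurd (relIndex_eq_one.mp h1) hwH
        · exact h1⟩
    refine (isPrimePow_nat_iff n).mpr ⟨p, k, hp.out, Nat.pos_of_ne_zero fun h0 => ?_, hk.symm⟩
    have := h.hn
    rw [hk, h0, pow_zero] at this
    omega
  · push Not at hB
    exfalso
    obtain ⟨p, hp, hpn⟩ := Nat.exists_prime_and_dvd (n := n) (by have := h.hn; omega)
    have hpr : p ≠ r := fun e => hrn (e ▸ hpn)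
    have hnp : 0 < n.factorization p := hp.factorization_pos_of_dvd (by have := h.hn; omega) hpn
    have hmp : m.factorization p = 0 := Nat.factorization_eq_zero_of_not_dvd (h.not_dvd_m hp hpn)
    obtain ⟨x, hx⟩ := h.exn
    obtain ⟨b, hb, hpb, hbz⟩ : ∃ b ∈ cz a, PE p b ∧ b ∉ center G := by
      by_contra hcon
      push Not at hcon
      have h1 := vp_le_of_forall hp (L := center G) (K := cz a) hcon
      have h2 := vp_mono (p := p) (center_le_centralizer ({x} : Set G))
      rw [Sz.vp_cs ca] at h1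
      rw [show vp p (centralizer ({x} : Set G)) = n.factorization p from Sz.vp_cs hx] at h2
      omega
    have hHb := hB b hb (hpb.orderOf_coprime hp hr hpr)
    have hcb : cz b = cz a := by
      rcases h.of_dvd_m (g := b) (ca ▸ index_dvd_of_le hHb) with h1 | h1
      · exact absurd (cs_one_iff.mp h1) hbz
      · exact (eq_of_le_of_index hHb (by change cs a ≤ cs b; rw [ca, h1])).symm
    have hr_el : ∀ g ∈ cz a, PE r g → cz a ≤ cz g := by
      intro g hg hpg
      have hgo := hpg.orderOf_coprime hr hp (Ne.symm hpr)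
      rcases h.relIndex_cases hpb (show cs b = m by rw [cs, ← ca]; exact congrArg Subgroup.index hcb)
        (hcb.symm ▸ hg) hgo with h1 | h1
      · exact hcb ▸ relIndex_eq_one.mp h1
      · exfalso
        have hv : vp p (cz a ⊓ cz g) ≤ vp p (cz a) := vp_le_of_forall hp fun u hu hpu =>
          ⟨hu, mem_cz.mpr (mem_cz.mp (hB u hu (hpu.orderOf_coprime hp hr hpr) hg)).symm⟩
        refine not_dvd_relIndex hp inf_le_left hv ?_
        rw [inf_relIndex_left, ← hcb, h1]
        exact hpn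
    have hab : ∀ g ∈ cz a, cz a ≤ cz g := by
      intro g hg
      have hgz : g ∈ Zh a := by
        by_contra hgz
        obtain ⟨s, hs, u, hu, hpu, huz⟩ := exists_prim hgz
        have huH : u ∈ cz a := (zpowers_le.mpr hg) hu
        refine huz (mem_zh.mpr ⟨huH, fun y hy => ?_⟩)
        rcases eq_or_ne s r with rfl | hsr
        · exact mem_cz.mp (hr_el u huH hpu hy)
        · exact mem_cz.mp (hB u huH (hpu.orderOf_coprime hs hr hsr) hy)
      exact fun y hy => mem_cz.mpr ((mem_zh.mp hgz).2 y hy).eq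
    refine h.false_of_inf_le ca hx fun d hd => ?_
    by_contra hdz
    have hdm : cz a = cz d := by
      rcases h.of_dvd_m (g := d) (ca ▸ index_dvd_of_le (hab d hd.1)) with h1 | h1
      · exact absurd (cs_one_iff.mp h1) hdz
      · exact eq_of_le_of_index (hab d hd.1) (by change cs a ≤ cs d; rw [ca, h1])
    have hxa : x ∈ cz a := hdm ▸ mem_cz.mpr (mem_cz.mp hd.2).symm
    exact h.not_n_dvd_m (hx ▸ ca ▸ index_dvd_of_le (hab x hxa))

/-- `n` is a prime power. -/
theorem Sz.isPrimePow (h : Sz G n m) : IsPrimePow n := by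
  by_contra hno
  have hall : ∀ r : ℕ, r.Prime → ∀ a : G, PE r a → cs a = m → r ∣ n := fun r hr a ha ca => by
    by_contra hrn; exact hno (h.isPrimePow_of_not_dvd hr ha ca hrn)
  obtain ⟨r, hr, a, ha, ca⟩ := h.exists_primary_m
  have hrn := hall r hr a ha ca
  have hn1 := h.hn
  have hm1 := h.hm
  have hnm0 : 0 < n * m := Nat.mul_pos (by omega) (by omega)
  obtain ⟨e, he, hem⟩ := Nat.exists_prime_and_dvd (n := m) (by omega)
  have hen : ¬ e ∣ n := h.symm.not_dvd_m he hem
  have her : e ≠ r := fun h1 => hen (h1 ▸ hrn)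
  obtain ⟨p, hp, hpr, hpn⟩ : ∃ p : ℕ, p.Prime ∧ p ≠ r ∧ p ∣ n := by
    by_contra hcon
    push Not at hcon
    exact hno (isPrimePow_iff_unique_prime_dvd.mpr ⟨r, ⟨hr, hrn⟩, fun d hd => by
      by_contra hne; exact hcon d hd.1 hne hd.2⟩)
  have hpe : p ≠ e := fun h1 => hen (h1 ▸ hpn)
  have hmp : m.factorization p = 0 := Nat.factorization_eq_zero_of_not_dvd (h.not_dvd_m hp hpn)
  have hnp : 0 < n.factorization p := hp.factorization_pos_of_dvd (by omega) hpn
  have hinf : ∀ x ∈ cz a, (orderOf x).Coprime r → x ∉ Zh a → (cz a ⊓ cz x).index = n * m := by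
    intro x hx hxo hxz
    have h1 := relIndex_mul_index (inf_le_left : cz a ⊓ cz x ≤ cz a)
    rw [inf_relIndex_left] at h1
    rcases h.relIndex_cases ha ca hx hxo with h2 | h2
    · exact absurd (mem_zh.mpr ⟨hx, fun y hy => mem_cz.mp (relIndex_eq_one.mp h2 hy)⟩) hxz
    · rw [h2] at h1
      change n * cs a = _ at h1
      rw [ca] at h1
      exact h1.symm
  have triple : ∀ s₁ s₂ : ℕ, s₁.Prime → s₂.Prime → s₁ ≠ s₂ → s₁ ≠ r → s₂ ≠ r → ∀ x ∈ cz a, ∀ y ∈ cz a,
      PE s₁ x → PE s₂ y → x ∉ Zh a → y ∉ Zh a → Commute x y → cz a ⊓ cz x = cz a ⊓ cz y := by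
    intro s₁ s₂ hs₁ hs₂ h12 h1r h2r x hx y hy hpx hpy hxz hyz hxy
    have hax : Commute a x := (mem_cz.mp hx : Commute x a).symm
    have hay : Commute a y := (mem_cz.mp hy : Commute y a).symm
    have hc1 : cz (a * x) = cz a ⊓ cz x := inf_cz_eq hax (ha.co (hpx.orderOf_coprime hs₁ hr h1r))
    have hco : (orderOf (a * x)).Coprime (orderOf y) :=
      ((ha.coprime hr hs₂ (Ne.symm h2r) hpy).mul_left (hpx.coprime hs₁ hs₂ h12 hpy)).coprime_dvd_left
        hax.orderOf_mul_dvd_mul_orderOf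
    have hc2 : cz (a * x * y) = cz a ⊓ cz x ⊓ cz y := by rw [inf_cz_eq (hay.mul_left hxy) hco, hc1]
    have hix := hinf x hx (hpx.orderOf_coprime hs₁ hr h1r) hxz
    have hiy := hinf y hy (hpy.orderOf_coprime hs₂ hr h2r) hyz
    have heq : cz (a * x * y) = cz a ⊓ cz x := eq_of_le_of_index ((le_of_eq hc2).trans inf_le_left) (by
      rw [hix]; exact Nat.le_of_dvd hnm0 (h.cs_dvd _))
    refine eq_of_le_of_index (le_inf inf_le_left ?_) (by rw [hix, hiy])
    exact (le_of_eq heq.symm).trans ((le_of_eq hc2).trans inf_le_right)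
  -- an `e`-element of `C(a)` outside its centre
  obtain ⟨w, hw, hpw, hwz⟩ : ∃ w ∈ cz a, PE e w ∧ w ∉ Zh a := by
    by_contra hcon
    push Not at hcon
    have hcen : ∀ u ∈ cz a, PE e u → u ∈ center G := by
      intro u hu hpu
      by_contra huz
      have hd : cs u ∣ cs a :=
        index_dvd_of_le (fun y hy => mem_cz.mpr ((mem_zh.mp (hcon u hu hpu)).2 y hy).eq)
      rw [ca] at hd
      rcases h.of_dvd_m hd with h1 | h1
      · exact huz (cs_one_iff.mp h1)
      · exact hen (hall e he u hpu h1)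
    have hv : vp e (center G) ≤ m.factorization e := (vp_le_of_forall he hcen).trans_eq (Sz.vp_cs ca)
    obtain ⟨g, hpg, hgz⟩ : ∃ g : G, PE e g ∧ g ∉ center G := by
      by_contra hcon'
      push Not at hcon'
      have h1 := vp_le_of_forall he (L := center G) (K := ⊤) fun u _ hpu => hcon' u hpu
      have h2 : vp e (⊤ : Subgroup G) = 0 := by simp [vp]
      have h3 := vp_mono (p := e) (center_le_centralizer ({a} : Set G))
      rw [show vp e (centralizer ({a} : Set G)) = m.factorization e from Sz.vp_cs ca] at h3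
      have h4 : 0 < m.factorization e := he.factorization_pos_of_dvd (by omega) hem
      omega
    have hkey : ∀ s, cs g = s → m.factorization e ≤ s.factorization e → False := fun s hs hle => by
      obtain ⟨k, -, hk⟩ := conj_into' he (center_le_centralizer ({g} : Set G))
        (hv.trans (hle.trans_eq (Sz.vp_cs hs).symm)) (mem_cz.mpr rfl) hpg
      exact hgz (by simpa [mul_assoc] using (inferInstance : (center G).Normal).conj_mem _ hk k⁻¹)
    rcases h.val g with h1 | h1 | h1 | h1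
    · exact hgz (cs_one_iff.mp h1)
    · exact hgz (hcen g (mem_cz.mpr (commute_mn h ca h1).symm.eq) hpg)
    · exact hkey _ h1 le_rfl
    · exact hkey _ h1 (h.fact_nm' he hem).ge
  set D := cz a ⊓ cz w with hDdef
  have hDi : D.index = n * m := hinf w hw (hpw.orderOf_coprime he hr her) hwz
  have hZD : Zh a ≤ D := fun z hz => ⟨hz.1, mem_cz.mpr ((mem_zh.mp hz).2 w hw).symm.eq⟩
  have hconj : ∀ s : ℕ, s.Prime → s ≠ r → s ≠ e → ∀ x ∈ cz a, PE s x → x ∉ Zh a →
      ∃ k ∈ cz a, cz a ⊓ cz x = cz a ⊓ cz (k * w * k⁻¹) := by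
    intro s hs hsr hse x hx hpx hxz
    obtain ⟨k, hk, hkw⟩ := conj_into' he (inf_le_left : cz a ⊓ cz x ≤ cz a) (by
      rw [Sz.vp_cs ca, show vp e (cz a ⊓ cz x) = (n * m).factorization e from by
        unfold vp; rw [hinf x hx (hpx.orderOf_coprime hs hr hsr) hxz], h.fact_nm' he hem]) hw hpw
    exact ⟨k, hk, triple s e hs he hse hsr her x hx _ hkw.1 hpx (hpw.conj k) hxz
      (fun hz => hwz (zh_conj hk hz)) (mem_cz.mp hkw.2 : Commute _ x).symm⟩
  have hzp : n.factorization p < vp p (Zh a) := by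
    obtain ⟨z, hz, hpz, hzz⟩ : ∃ z ∈ cz a, PE p z ∧ z ∉ Zh a := by
      by_contra hcon
      push Not at hcon
      have h1 := (vp_le_of_forall hp hcon).trans_eq (Sz.vp_cs ca)
      have h2 := vp_mono (p := p) hZD
      rw [show vp p D = (n * m).factorization p from by unfold vp; rw [hDi], h.fact_nm hp hpn] at h2
      omega
    obtain ⟨k, hk, hke⟩ := hconj p hp hpr hpe z hz hpz hzz
    by_contra hle
    push Not at hle
    have hzD : k⁻¹ * z * k ∈ D := by
      have h1 : z ∈ cz a ⊓ cz (k * w * k⁻¹) := hke ▸ ⟨hz, mem_cz.mpr rfl⟩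
      exact mem_inf.mpr ⟨mul_mem (mul_mem ((cz a).inv_mem hk) hz) hk, (cz_conj k w).mp h1.2⟩
    obtain ⟨l, hl, hlz⟩ := conj_into' hp hZD (by
      rwa [show vp p D = (n * m).factorization p from by unfold vp; rw [hDi], h.fact_nm hp hpn])
      hzD (p := p) (by simpa using hpz.conj k⁻¹)
    refine hzz (zh_conj (inv_mem hk) ?_)
    rw [inv_inv]
    exact zh_conj hl.1 hlz
  have pel : ∀ L : Subgroup G, vp p L ≤ n.factorization p → ∃ z ∈ L, PE p z ∧ z ∉ Zh a := by
    intro L hL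
    by_contra hcon
    push Not at hcon
    have := vp_le_of_forall hp hcon
    omega
  have hconj' : ∀ s : ℕ, s.Prime → s ≠ r → ∀ x ∈ cz a, PE s x → x ∉ Zh a →
      ∃ k ∈ cz a, cz a ⊓ cz x = cz a ⊓ cz (k * w * k⁻¹) := by
    intro s hs hsr x hx hpx hxz
    rcases ne_or_eq s e with hse | rfl
    · exact hconj s hs hsr hse x hx hpx hxz
    · obtain ⟨z, hzL, hpz, hzz⟩ := pel (cz a ⊓ cz x) (by
        unfold vp; rw [hinf x hx (hpx.orderOf_coprime hs hr hsr) hxz, h.fact_nm hp hpn])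
      obtain ⟨k, hk, hke⟩ := hconj p hp hpr hpe z hzL.1 hpz hzz
      refine ⟨k, hk, ?_⟩
      rw [← hke]
      exact triple s p hs hp (Ne.symm hpe) hsr hpr x hx z hzL.1 hpx hpz hxz hzz (mem_cz.mp hzL.2 : Commute z x).symm
  -- every element of `C(a)` is conjugate into `D`
  have htop : D.subgroupOf (cz a) = ⊤ := by
    refine CfsgLib.eq_top_of_conj_cover _ fun ⟨g, hg⟩ => ?_
    suffices hx : g ∈ Zh a ∨ ∃ s : ℕ, s.Prime ∧ s ≠ r ∧ ∃ x ∈ cz a, PE s x ∧ x ∉ Zh a ∧ Commute g x by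
      rcases hx with hz | ⟨s, hs, hsr, x, hx, hpx, hxz, hgx⟩
      · exact ⟨1, by simpa [mem_subgroupOf] using hZD hz⟩
      · obtain ⟨k, hk, hke⟩ := hconj' s hs hsr x hx hpx hxz
        refine ⟨⟨k, hk⟩⁻¹, ?_⟩
        have h1 : g ∈ cz a ⊓ cz (k * w * k⁻¹) := hke ▸ ⟨hg, mem_cz.mpr hgx.eq⟩
        simp only [mem_subgroupOf, coe_mul, InvMemClass.coe_inv, inv_inv]
        exact mem_inf.mpr ⟨mul_mem (mul_mem ((cz a).inv_mem hk) hg) hk, (cz_conj k w).mp h1.2⟩
    haveI := Fact.mk hr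
    obtain ⟨y, t, hyt, hy, ht, hpy, hto⟩ := CycSyl.split (p := r) g
    have hyH : y ∈ cz a := (zpowers_le.mpr hg) hy
    have htH : t ∈ cz a := (zpowers_le.mpr hg) ht
    by_cases htz : t ∈ Zh a
    swap
    · obtain ⟨s, hs, u, hu, hpu, huz⟩ := exists_prim htz
      refine Or.inr ⟨s, hs, fun hsr => ?_, u, (zpowers_le.mpr htH) hu, hpu, huz, ?_⟩
      · subst hsr
        rw [hpu.eq_one (hto.coprime_dvd_left (orderOf_dvd_of_mem_zpowers hu))] at huz
        exact huz (one_mem _)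
      · exact mem_cz.mp (cz_le_of_zpowers ((zpowers_le.mpr ht) hu) (mem_cz.mpr rfl))
    by_cases hyz : y ∈ Zh a
    · exact Or.inl (hyt ▸ mul_mem hyz htz)
    right
    suffices hx : ∃ s : ℕ, s.Prime ∧ s ≠ r ∧ ∃ x ∈ cz a, PE s x ∧ x ∉ Zh a ∧ Commute y x by
      obtain ⟨s, hs, hsr, x, hx, hpx, hxz, hyx⟩ := hx
      refine ⟨s, hs, hsr, x, hx, hpx, hxz, ?_⟩
      rw [← hyt]
      exact hyx.mul_left ((mem_zh.mp htz).2 x hx).symm
    have fin : ∀ L : Subgroup G, vp p L ≤ n.factorization p → L ≤ cz a ⊓ cz y →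
        ∃ s : ℕ, s.Prime ∧ s ≠ r ∧ ∃ x ∈ cz a, PE s x ∧ x ∉ Zh a ∧ Commute y x := fun L hL hle => by
      obtain ⟨z, hz, hpz, hzz⟩ := pel L hL
      exact ⟨p, hp, hpr, z, (hle hz).1, hpz, hzz, (mem_cz.mp (hle hz).2 : Commute z y).symm⟩
    rcases h.val y with h1 | h1 | h1 | h1
    · exact absurd (center_le_zh a (cs_one_iff.mp h1)) hyz
    · exact fin _ (by unfold vp; rw [h.index_inf ca h1, h.fact_nm hp hpn]) le_rfl
    · obtain ⟨s, hs, x, hpx, hx⟩ := h.symm.exists_primary_m
      have hax := commute_mn h ca hx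
      have hyx := commute_mn h h1 hx
      rcases ne_or_eq s r with hsr | rfl
      · refine ⟨s, hs, hsr, x, mem_cz.mpr hax.symm.eq, hpx, fun hxz => ?_, hyx⟩
        have hd : cs x ∣ cs a := index_dvd_of_le (fun v hv => mem_cz.mpr ((mem_zh.mp hxz).2 v hv).eq)
        rw [hx, ca] at hd
        exact h.not_n_dvd_m hd
      · refine fin (cz a ⊓ cz y) ((vp_le_of_forall hp fun v hv hpv => ?_).trans_eq (Sz.vp_cs hx)) le_rfl
        have hvo := hpv.orderOf_coprime hp hs hpr
        have hsm := h.not_dvd_m hs hrn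
        exact ⟨mem_cz.mpr (h.symm.comm_cz hs hpx hx hsm (mem_cz.mpr hax.eq) hv ha hvo).symm.eq,
          mem_cz.mpr (h.symm.comm_cz hs hpx hx hsm (mem_cz.mpr hyx.eq) hv hpy hvo).symm.eq⟩
    · refine fin (cz a ⊓ cz y) ((vp_le_of_forall hp (L := cz a ⊓ cz y) (K := cz y) fun v hv hpv => ⟨?_, hv⟩).trans_eq
        ((Sz.vp_cs h1).trans (h.fact_nm hp hpn))) le_rfl
      have hvy : Commute v y := mem_cz.mp hv
      have hc : cz (v * y) = cz v ⊓ cz y := mul_cz hp hr hpr hpv hpy hvy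
      have h2 : cz (v * y) = cz y := eq_of_le_of_index ((le_of_eq hc).trans inf_le_right) (by
        change cs (v * y) ≤ cs y; rw [h1]; exact Nat.le_of_dvd hnm0 (h.cs_dvd _))
      have h3 : a ∈ cz v := ((le_of_eq h2.symm).trans ((le_of_eq hc).trans inf_le_left))
        (mem_cz.mpr (mem_cz.mp hyH).symm)
      exact mem_cz.mpr (mem_cz.mp h3).symm
  refine hwz (mem_zh.mpr ⟨hw, fun y hy => ?_⟩)
  have h1 : (⟨y, hy⟩ : cz a) ∈ D.subgroupOf (cz a) := htop ▸ mem_top _
  exact mem_cz.mp (mem_subgroupOf.mp h1).2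

end CfsgLib.ConjTypeNM
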